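import Cfsg.Agent.H824.E7.Cross
import Cfsg.Agent.H92.TorExp
import Cfsg.Agent.H962.E7.Def

/-!
# `E₇(q)`: the facts used by the frame (helper824)

`tor_L : Tor L q`, `nad_L : Nad L q`, `fl_L : i ∈ C8 → Fl L q i`, `pi_L` (`L = E₇(q)`).
-/

set_option autoImplicit false
set_option linter.unusedSectionVars false

namespace Cfsg.Agent.H824.E7.Facts

open Cfsg Cfsg.Lie Polynomial
open Cfsg.Agent.H129 Cfsg.Agent.H436 Cfsg.Agent.H962.E7 Cfsg.Agent.H824.E7.Tor Cfsg.Agent.H378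
  Cfsg.Agent.ChevalleyStructure.CoxeterGeomTypes
open Cfsg.Agent.H35.ExcIdx (hpE7)

universe u

theorem od_of_prim {q i r : ℕ} (hq : 1 ≤ q) (h : Prim q i r) : orderOf (q : ZMod r) = i := by
  apply Nat.dvd_antisymm
  · rw [← Cross.dvd_iff_od hq]
    exact h.dvd dvd_rfl
  · rw [← h.dvd_iff, Cross.dvd_iff_od hq]

section Cyc

theorem eval_cast (d s : ℕ) (q : ℕ) :
    (((cyclotomic d ℤ).eval (q : ℤ) : ℤ) : ZMod s) = (cyclotomic d (ZMod s)).eval ((q : ℕ) : ZMod s) := by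
  rw [← map_cyclotomic_int d (ZMod s), eval_map]
  have h := Polynomial.hom_eval₂ (cyclotomic d ℤ) (RingHom.id ℤ) (Int.castRingHom (ZMod s)) (q : ℤ)
  rw [RingHom.comp_id] at h
  simp only [eq_intCast, Int.cast_natCast, eval₂_id] at h
  exact h

/-- the order of `q` modulo a prime divisor of `Φ_d(q)` -/
theorem orderOf_of_dvd {d s q : ℕ} (hs : s.Prime) (hd : ¬ s ∣ d) (h : (s : ℤ) ∣ (cyclotomic d ℤ).eval (q : ℤ)) :
    orderOf ((q : ℕ) : ZMod s) = d := by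
  have : Fact s.Prime := ⟨hs⟩
  have : NeZero (d : ZMod s) := ⟨fun h0 => hd ((ZMod.natCast_eq_zero_iff d s).1 h0)⟩
  have h1 : (cyclotomic d (ZMod s)).IsRoot ((q : ℕ) : ZMod s) := by
    rw [IsRoot.def, ← eval_cast]
    exact (ZMod.intCast_zmod_eq_zero_iff_dvd _ s).2 h
  exact (isRoot_cyclotomic_iff.1 h1).eq_orderOf.symm

theorem sub_one_le {s d : ℕ} (hs : s.Prime) (hd0 : 0 < d) (h : s ∣ d) : s - 1 ≤ Nat.totient d := by
  have h1 := Nat.totient_dvd_of_dvd h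
  rw [Nat.totient_prime hs] at h1
  exact Nat.le_of_dvd (Nat.totient_pos.2 hd0) h1

/-- the primes of the classes of `C8` are greater than 8 -/
theorem gt_eight {q i r : ℕ} (hq : 1 ≤ q) (h : Prim q i r) (hi : i ∈ C8) : 8 < r := by
  have h1 := (od_facts (i := i) h.prime (od_of_prim hq h) (by
    simp only [C8, Finset.mem_insert, Finset.mem_singleton] at hi; omega)).2
  obtain ⟨c, hc⟩ := h1
  have hr := h.prime
  have h2 := hr.two_le
  by_contra hcon
  have h8 : r ≤ 8 := by omega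
  have hc0 : c ≠ 0 := by rintro rfl; omega
  simp only [C8, Finset.mem_insert, Finset.mem_singleton] at hi
  have hc1 : 1 ≤ c := by omega
  rcases hi with rfl | rfl | rfl | rfl | rfl | rfl | rfl | rfl
  · have h6 : r = 6 := by omega
    subst h6
    norm_num at hr
  · have h6 : r = 8 := by omega
    subst h6
    norm_num at hr
  all_goals omega

theorem four_le {i : ℕ} (hi : i ∈ C8) : 4 ≤ Nat.totient i ∧ 0 < i := by
  simp only [C8, Finset.mem_insert, Finset.mem_singleton] at hi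
  rcases hi with rfl | rfl | rfl | rfl | rfl | rfl | rfl | rfl <;> decide

end Cyc

section Main

variable (F : Type u) [Field F] [Fintype F]

/-- primes of different classes are not adjacent -/
theorem nad_L : Nad ↥(chevE7.group F) (Fintype.card F) := by
  intro i hi j hj hij r s hr hs
  rintro ⟨x, hx⟩
  obtain ⟨p, hpc⟩ := CharP.exists F
  have hp : Fact p.Prime := ⟨CharP.char_is_prime F p⟩
  have hfin := Cfsg.Agent.Nodes.RGDChev.finite_W hpE7 CoxeterMatrix.E₇.toCoxeterSystem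
  have hq2 : 2 ≤ Fintype.card F := Fintype.one_lt_card
  have hpq : p ∣ Fintype.card F := by
    obtain ⟨n, -, hn⟩ := FiniteField.card F p
    rw [hn]
    exact dvd_pow_self p n.ne_zero
  have hrp : r ≠ p := by rintro rfl; exact hr.not_dvd hpq
  have hsp : s ≠ p := by rintro rfl; exact hs.not_dvd hpq
  have hcop : (orderOf x).Coprime p := by
    rw [hx]
    exact Nat.Coprime.mul_left ((Nat.coprime_primes hr.prime hp.out).2 hrp) ((Nat.coprime_primes hs.prime hp.out).2 hsp)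
  obtain ⟨S, h0, hsum, hdvd⟩ := H92.TorExp.ord_untw hpE7 CoxeterMatrix.E₇.toCoxeterSystem (x := x) hcop
  have key : ∀ (i r : ℕ), i ∈ C8 → Prim (Fintype.card F) i r → r ∣ orderOf x → i ∈ S := by
    intro i r hi hr hrx
    have h1 : (r : ℤ) ∣ ∏ d ∈ S, (cyclotomic d ℤ).eval (Fintype.card F : ℤ) :=
      (Int.natCast_dvd_natCast.2 hrx).trans hdvd
    have hrP : Prime (r : ℤ) := Nat.prime_iff_prime_int.1 hr.prime
    obtain ⟨d, hdS, hd⟩ := (hrP.dvd_finsetProd_iff _).1 h1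
    have h8 := gt_eight (by omega) hr hi
    by_cases hrd : r ∣ d
    · exfalso
      have h2 := sub_one_le hr.prime (h0 d hdS) hrd
      have h3 : Nat.totient d ≤ ∑ d ∈ S, Nat.totient d := Finset.single_le_sum (f := fun d => Nat.totient d)
        (fun _ _ => Nat.zero_le _) hdS
      omega
    · have h2 := orderOf_of_dvd hr.prime hrd hd
      rw [od_of_prim (by omega) hr] at h2
      rwa [h2]
  have h1 := key i r hi hr (by rw [hx]; exact Dvd.intro s rfl)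
  have h2 := key j s hj hs (by rw [hx]; exact Dvd.intro_left r rfl)
  have h3 : ∑ d ∈ ({i, j} : Finset ℕ), Nat.totient d ≤ ∑ d ∈ S, Nat.totient d := by
    apply Finset.sum_le_sum_of_subset
    intro d hd
    simp only [Finset.mem_insert, Finset.mem_singleton] at hd
    rcases hd with rfl | rfl
    · exact h1
    · exact h2
  rw [Finset.sum_pair hij] at h3
  have := (four_le hi).1
  have := (four_le hj).1
  omega

/-- the primes dividing the order -/
theorem pi_L (r : ℕ) (hr : r.Prime) (hd : r ∣ Nat.card ↥(chevE7.group F)) :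
    r ∣ Fintype.card F ∨ ∃ i ∈ ({8, 10, 12, 14, 18} : Finset ℕ), r ∣ (Fintype.card F) ^ i - 1 := by
  have h := ExcAdj.od_E7 hr hd
  rw [Nat.card_eq_fintype_card] at h
  have hq1 : 1 ≤ Fintype.card F := Fintype.card_pos
  rcases h with h | h
  · exact Or.inl h
  · right
    have key : ∀ i, ExcAdj.od (Fintype.card F) r ∣ i → r ∣ (Fintype.card F) ^ i - 1 := fun i hi =>
      ExcAdj.dvd_of_od_dvd hq1 hi
    rcases h with h | h | h | h | h | h | h | h | h | h | h | h | h <;> rw [h] at key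
    · exact ⟨8, by decide, key 8 (by decide)⟩
    · exact ⟨8, by decide, key 8 (by decide)⟩
    · exact ⟨12, by decide, key 12 (by decide)⟩
    · exact ⟨8, by decide, key 8 (by decide)⟩
    · exact ⟨10, by decide, key 10 (by decide)⟩
    · exact ⟨12, by decide, key 12 (by decide)⟩
    · exact ⟨14, by decide, key 14 (by decide)⟩
    · exact ⟨8, by decide, key 8 (by decide)⟩
    · exact ⟨18, by decide, key 18 (by decide)⟩
    · exact ⟨10, by decide, key 10 (by decide)⟩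
    · exact ⟨12, by decide, key 12 (by decide)⟩
    · exact ⟨14, by decide, key 14 (by decide)⟩
    · exact ⟨18, by decide, key 18 (by decide)⟩

theorem dvd_of_mul {d m N : ℕ} (hd : 0 < d) (h : d * m ∣ N) : m ∣ N / d := by
  obtain ⟨c, hc⟩ := h
  rw [hc, mul_assoc, Nat.mul_div_cancel_left _ hd]
  exact Dvd.intro c rfl

/-- the tori -/
theorem tor_L : H962.E7.Tor ↥(chevE7.group F) (Fintype.card F) := by
  intro i hi x r hr hx
  have hd0 : 0 < dd (Fintype.card F) := Nat.gcd_pos_of_pos_left _ (by norm_num)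
  have ho := od_of_prim (Fintype.card_pos (α := F)) hr
  simp only [C4, Finset.mem_insert, Finset.mem_singleton] at hi
  rcases hi with rfl | rfl | rfl | rfl
  · exact dvd_of_mul hd0 (bound7 rfl hr.prime ho hx)
  · exact dvd_of_mul hd0 (bound9 rfl hr.prime ho hx)
  · exact dvd_of_mul hd0 (bound14 rfl hr.prime ho hx)
  · exact dvd_of_mul hd0 (bound18 rfl hr.prime ho hx)


theorem dvd_card {i r : ℕ} (hi : i ∈ C8) (hr : Prim (Fintype.card F) i r) : r ∣ Nat.card ↥(chevE7.group F) := by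
  have hq1 : 1 ≤ Fintype.card F := Fintype.card_pos
  have h8 := gt_eight hq1 hr hi
  have hc := Cfsg.Agent.S1064.result (F := F) rfl
  have h1 : r ∣ Nat.gcd 2 (Fintype.card F - 1) * Nat.card ↥(chevE7.group F) := by
    rw [hc]
    have key : ∀ n, i ∣ n → r ∣ (Fintype.card F) ^ n - 1 := fun n hn => hr.dvd hn
    simp only [C8, Finset.mem_insert, Finset.mem_singleton] at hi
    simp only [hr.prime.dvd_mul]
    rcases hi with rfl | rfl | rfl | rfl | rfl | rfl | rfl | rfl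
    · have := key 10 (by decide); tauto
    · have := key 14 (by decide); tauto
    · have := key 8 (by decide); tauto
    · have := key 18 (by decide); tauto
    · have := key 10 (by decide); tauto
    · have := key 12 (by decide); tauto
    · have := key 14 (by decide); tauto
    · have := key 18 (by decide); tauto
  rcases hr.prime.dvd_mul.1 h1 with h2 | h2
  · have := Nat.le_of_dvd (by norm_num) (h2.trans (Nat.gcd_dvd_left 2 _))
    omega
  · exact h2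

theorem exists_of_torus {G : Type*} [Group G] {T : Subgroup G} [Finite ↥T] (hT : IsCyclic ↥T) {n : ℕ} (h : n ∣ Nat.card ↥T) :
    ∃ x : G, orderOf x = n := by
  obtain ⟨g, hg⟩ := hT.exists_ofOrder_eq_natCard
  obtain ⟨c, hc⟩ := h
  have hc0 : c ≠ 0 := by
    rintro rfl
    rw [mul_zero] at hc
    exact Nat.card_pos.ne' hc
  refine ⟨((g ^ c : ↥T) : G), ?_⟩
  rw [Subgroup.orderOf_coe, orderOf_pow_of_dvd hc0 (by rw [hg, hc]; exact Dvd.intro_left _ rfl), hg, hc]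
  exact Nat.mul_div_cancel _ (Nat.pos_of_ne_zero hc0)


theorem nn_aux {A B g d T : ℕ} (hg : g ∣ B) (hd : d ∣ A) (h0 : 0 < d) (hT : d * T = A * B) : B / g ∣ T := by
  obtain ⟨m, rfl⟩ := hd
  have h1 : T = m * B := Nat.eq_of_mul_eq_mul_left h0 (by rw [hT, mul_assoc])
  rw [h1]
  exact (Nat.div_dvd_of_dvd hg).mul_left m

theorem gcd_dvd_aux {a n B : ℕ} {c : ℤ} (h : (B : ℤ) = (a : ℤ) * c + n) : Nat.gcd n a ∣ B := by
  apply Int.natCast_dvd_natCast.1
  rw [h]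
  exact dvd_add ((Int.natCast_dvd_natCast.2 (Nat.gcd_dvd_right n a)).mul_right c)
    (Int.natCast_dvd_natCast.2 (Nat.gcd_dvd_left n a))

theorem elt_L {i : ℕ} (hi : i ∈ C4) : ∃ x : ↥(chevE7.group F), orderOf x = NN (Fintype.card F) i := by
  obtain ⟨q, hq⟩ : ∃ q, Fintype.card F = q := ⟨_, rfl⟩
  rw [hq]
  have hq2 : 2 ≤ q := by rw [← hq]; exact Fintype.one_lt_card
  have hq1 : 1 ≤ q := by omega
  have hd0 : 0 < dd q := Nat.gcd_pos_of_pos_left _ (by norm_num)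
  have hdm : dd q ∣ q - 1 := Nat.gcd_dvd_right _ _
  have hdp : dd q ∣ q + 1 := by
    have h1 : q + 1 = (q - 1) + 2 := by omega
    rw [h1]
    exact dvd_add hdm (Nat.gcd_dvd_left _ _)
  simp only [C4, Finset.mem_insert, Finset.mem_singleton] at hi
  rcases hi with rfl | rfl | rfl | rfl
  · obtain ⟨B, hB⟩ : ∃ B : ℕ, B = q ^ 6 + q ^ 5 + q ^ 4 + q ^ 3 + q ^ 2 + q + 1 := ⟨_, rfl⟩
    have hN' : q ^ 7 - 1 = (q - 1) * B := by
      rw [hB]
      zify [Nat.one_le_pow 7 q hq1, hq1]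
      ring
    have hN : ((q ^ 7 - 1 : ℕ) : ℤ) = -1 + (q : ℤ) ^ 7 := by
      push_cast [Nat.cast_sub (Nat.one_le_pow 7 q hq1)]; ring
    obtain ⟨T, hT, hc, -⟩ := tor hq DataE7s.hA DataE7s.chainOK DataE7s.cycOK DataE7s.rootOK
      (N := q ^ 7 - 1) (by rw [DataE7s.fN_eq, hN]) (RealT.coprime_of_neg (a := (q : ℤ) ^ 6) (by rw [hN]; ring))
    have hg : Nat.gcd 7 (q - 1) ∣ B := by
      apply gcd_dvd_aux (c := (q : ℤ) ^ 5 + 2 * (q : ℤ) ^ 4 + 3 * (q : ℤ) ^ 3 + 4 * (q : ℤ) ^ 2 + 5 * (q : ℤ) + 6)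
      rw [hB]
      push_cast [Nat.cast_sub hq1]
      ring
    have hNN : NN q 7 = B / Nat.gcd 7 (q - 1) := by
      show (q ^ 7 - 1) / ((q - 1) * Nat.gcd 7 (q - 1)) = _
      rw [hN', Nat.mul_div_mul_left _ _ (by omega)]
    rw [hNN]
    exact exists_of_torus hT (nn_aux hg hdm hd0 (by rw [hc, hN']))
  · have hN : (((q - 1) * (q ^ 6 + q ^ 3 + 1) : ℕ) : ℤ) =
        -1 + (q : ℤ) - (q : ℤ) ^ 3 + (q : ℤ) ^ 4 - (q : ℤ) ^ 6 + (q : ℤ) ^ 7 := by
      push_cast [Nat.cast_sub hq1]; ring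
    obtain ⟨T, hT, hc, -⟩ := tor hq DataE7n.hA DataE7n.chainOK DataE7n.cycOK DataE7n.rootOK
      (N := (q - 1) * (q ^ 6 + q ^ 3 + 1)) (by rw [DataE7n.fN_eq, hN])
      (RealT.coprime_of_neg (a := 1 - (q : ℤ) ^ 2 + (q : ℤ) ^ 3 - (q : ℤ) ^ 5 + (q : ℤ) ^ 6) (by rw [hN]; ring))
    have hg : Nat.gcd 3 (q - 1) ∣ q ^ 6 + q ^ 3 + 1 := by
      apply gcd_dvd_aux (c := (q : ℤ) ^ 5 + (q : ℤ) ^ 4 + (q : ℤ) ^ 3 + 2 * (q : ℤ) ^ 2 + 2 * (q : ℤ) + 2)
      push_cast [Nat.cast_sub hq1]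
      ring
    exact exists_of_torus hT (nn_aux hg hdm hd0 hc)
  · obtain ⟨B, hB⟩ : ∃ B : ℕ, (B : ℤ) = (q : ℤ) ^ 6 - (q : ℤ) ^ 5 + (q : ℤ) ^ 4 - (q : ℤ) ^ 3 + (q : ℤ) ^ 2 - (q : ℤ) + 1 := by
      obtain ⟨a, rfl⟩ : ∃ a, q = a + 1 := ⟨q - 1, by omega⟩
      refine ⟨a ^ 6 + 5 * a ^ 5 + 11 * a ^ 4 + 13 * a ^ 3 + 9 * a ^ 2 + 3 * a + 1, ?_⟩
      push_cast
      ring
    have hN' : q ^ 7 + 1 = (q + 1) * B := by
      zify
      rw [hB]
      ring
    have hN : ((q ^ 7 + 1 : ℕ) : ℤ) = 1 + (q : ℤ) ^ 7 := by push_cast; ring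
    obtain ⟨T, hT, hc, -⟩ := tor hq DataE7m.hA DataE7m.chainOK DataE7m.cycOK DataE7m.rootOK (N := q ^ 7 + 1)
      (by rw [DataE7m.fN_eq, hN]) (UntwData.coprime_of_eq (a := (q : ℤ) ^ 6) (by rw [hN]; ring))
    have hg : Nat.gcd 7 (q + 1) ∣ B := by
      apply gcd_dvd_aux (c := (q : ℤ) ^ 5 - 2 * (q : ℤ) ^ 4 + 3 * (q : ℤ) ^ 3 - 4 * (q : ℤ) ^ 2 + 5 * (q : ℤ) - 6)
      rw [hB]
      push_cast
      ring
    have hNN : NN q 14 = B / Nat.gcd 7 (q + 1) := by
      show (q ^ 7 + 1) / ((q + 1) * Nat.gcd 7 (q + 1)) = _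
      rw [hN', Nat.mul_div_mul_left _ _ (by omega)]
    rw [hNN]
    exact exists_of_torus hT (nn_aux hg hdp hd0 (by rw [hc, hN']))
  · have hle : q ^ 3 ≤ q ^ 6 := Nat.pow_le_pow_right hq1 (by norm_num)
    have hN : (((q + 1) * (q ^ 6 - q ^ 3 + 1) : ℕ) : ℤ) =
        1 + (q : ℤ) - (q : ℤ) ^ 3 - (q : ℤ) ^ 4 + (q : ℤ) ^ 6 + (q : ℤ) ^ 7 := by
      push_cast [Nat.cast_sub hle]; ring
    obtain ⟨T, hT, hc, -⟩ := tor hq DataE7h.hA DataE7h.chainOK DataE7h.cycOK DataE7h.rootOK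
      (N := (q + 1) * (q ^ 6 - q ^ 3 + 1)) (by rw [DataE7h.fN_eq, hN])
      (UntwData.coprime_of_eq (a := 1 - (q : ℤ) ^ 2 - (q : ℤ) ^ 3 + (q : ℤ) ^ 5 + (q : ℤ) ^ 6) (by rw [hN]; ring))
    have hg : Nat.gcd 3 (q + 1) ∣ q ^ 6 - q ^ 3 + 1 := by
      apply gcd_dvd_aux (c := (q : ℤ) ^ 5 - (q : ℤ) ^ 4 + (q : ℤ) ^ 3 - 2 * (q : ℤ) ^ 2 + 2 * (q : ℤ) - 2)
      push_cast [Nat.cast_sub hle]
      ring
    exact exists_of_torus hT (nn_aux hg hdp hd0 hc)

theorem fl_L {i : ℕ} (hi : i ∈ C8) : Fl ↥(chevE7.group F) (Fintype.card F) i where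
  dvd := fun _ hr => dvd_card F hi hr
  elt := fun h => elt_L F h

end Main

end Cfsg.Agent.H824.E7.Facts
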