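import Cfsg.Agent.H824.E7.Aut

/-!
# Field automorphisms of `E₇(q)` (helper824)
-/

set_option autoImplicit false
set_option linter.unusedSectionVars false

namespace Cfsg.Agent.H824.E7.Aut

open scoped Pointwise
open CoxeterSystem Cfsg Cfsg.Lie Cfsg.Lie.ChevalleyDatum
open Cfsg.Agent.ChevalleyStructure Cfsg.Agent.ChevalleyStructure.Elts Cfsg.Agent.ChevalleyStructure.CoxeterGeom
  Cfsg.Agent.ChevalleyStructure.CoxeterGeomTypes Cfsg.Agent.ChevalleyStructure.NPerm
open Cfsg.Agent.Tits.Roots Cfsg.Agent.Tits.Core Cfsg.Agent.Nodes Cfsg.Agent.Nodes.Reps Cfsg.Agent.Nodes.BNOf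
  Cfsg.Agent.Nodes.RGDChev
open Cfsg.Agent.KFacts.RgdChevCoord Cfsg.Agent.BpExc Cfsg.Agent.BpExc.TowChev Cfsg.Agent.GpExc.Field
open Cfsg.Agent.H129.TorusChar
open Cfsg.Agent.H70.ChevFix Cfsg.Agent.H70.ChevField Cfsg.Agent.H70.OutCount Cfsg.Agent.H719.AutForm
open Cfsg.Agent.ChevalleyStructure.RootVec
open Cfsg.Agent.H35.ExcIdx (hpE7)
open Cfsg.Agent.H824.E7.Tor (dd)

universe u

variable {F : Type u} [Field F]

/-- powers -/
theorem V7.pow_one {ψ : MulAut ↥(chevE7.group F)} {τ : RingAut F} (h : V7 ψ (fun _ => 1) τ) (n : ℕ) :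
    V7 (ψ ^ n) (fun _ => 1) (τ ^ n) := by
  induction n with
  | zero => rw [pow_zero, pow_zero]; exact V7.one
  | succ n ih =>
    have h1 := ih.mul h
    rw [← pow_succ, ← pow_succ] at h1
    have h2 : (fun _ : Fin 7 => (1 : F) * (τ ^ n) 1) = fun _ => 1 := by
      funext i
      rw [map_one, mul_one]
    rwa [h2] at h1

theorem V7.pow {ψ : MulAut ↥(chevE7.group F)} {c : Fin 7 → F} {τ : RingAut F} (h : V7 ψ c τ) (n : ℕ) :
    ∃ c', V7 (ψ ^ n) c' (τ ^ n) := by
  induction n with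
  | zero => rw [pow_zero, pow_zero]; exact ⟨_, V7.one⟩
  | succ n ih =>
    obtain ⟨c', h'⟩ := ih
    rw [pow_succ, pow_succ]
    exact ⟨_, h'.mul h⟩

theorem PF.orderOf {ψ : MulAut ↥(chevE7.group F)} {τ : RingAut F} (h : PF ψ τ) : orderOf ψ = orderOf τ := by
  rw [orderOf_eq_orderOf_iff]
  intro n
  have h1 := V7.pow_one h n
  constructor
  · intro h2
    rw [h2] at h1
    exact h1.tau_unique V7.one
  · intro h2
    rw [h2] at h1
    exact h1.ext V7.one

/-- **pure field automorphisms fix the group over the fixed field** -/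
theorem PF.fix {ψ : MulAut ↥(chevE7.group F)} {τ : RingAut F} (h : PF ψ τ) {F₀ : Type u} [Field F₀] (ι : F₀ →+* F)
    (hτ : ∀ x, τ (ι x) = ι x) (y : ↥(chevE7.group F₀)) : ψ (emb hD ι y) = emb hD ι y := by
  have key : (ψ.toMonoidHom.comp (emb hD ι)) = emb hD ι := by
    refine H79.SimpleGen.hom_ext hD _ _ ?_ ?_
    · intro i hi t
      show ψ (emb hD ι (xe hD (chevE7.simple (⟨i, hi⟩ : Fin 7)) t)) = emb hD ι (xe hD (chevE7.simple (⟨i, hi⟩ : Fin 7)) t)
      rw [xe_eq, emb_xc, h.pos, one_mul, hτ]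
    · intro i hi t
      show ψ (emb hD ι (xe hD (chevE7.neg (chevE7.simple (⟨i, hi⟩ : Fin 7))) t)) =
        emb hD ι (xe hD (chevE7.neg (chevE7.simple (⟨i, hi⟩ : Fin 7))) t)
      rw [xe_neg_eq, emb_xc, h.neg, inv_one, one_mul, hτ]
  exact DFunLike.congr_fun key y

/-- the fixed field -/
theorem exists_fixed' [Fintype F] (τ : RingAut F) : ∃ (F₀ : Type u) (_ : Field F₀) (_ : Fintype F₀) (ι : F₀ →+* F),
    (∀ x, τ (ι x) = ι x) ∧ (∀ x, τ x = x → ∃ y, ι y = x) ∧ Fintype.card F = Fintype.card F₀ ^ orderOf τ := by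
  classical
  have hfin : Finite (RingAut F) := Finite.of_injective (fun τ : RingAut F => (τ : F → F)) DFunLike.coe_injective
  let G := Subgroup.zpowers τ
  have : Fintype G := Fintype.ofFinite G
  refine ⟨FixedPoints.subfield G F, inferInstance, Fintype.ofFinite _, (FixedPoints.subfield G F).subtype, ?_, ?_, ?_⟩
  · rintro ⟨x, hx⟩
    exact hx ⟨τ, Subgroup.mem_zpowers τ⟩
  · intro x hx
    refine ⟨⟨x, ?_⟩, rfl⟩
    rintro ⟨g, hg⟩
    have h1 : Subgroup.zpowers τ ≤ MulAction.stabilizer (RingAut F) x := by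
      rw [Subgroup.zpowers_le]
      exact hx
    exact h1 hg
  · have h1 := FixedPoints.finrank_eq_card G F
    have h2 : Nat.card F = Nat.card (FixedPoints.subfield G F) ^ orderOf τ := by
      rw [Module.natCard_eq_pow_finrank (K := FixedPoints.subfield G F) (V := F), h1,
        ← Nat.card_eq_fintype_card (α := G), Nat.card_zpowers]
    have h3 : Nat.card (FixedPoints.subfield G F) = @Fintype.card (FixedPoints.subfield G F) (Fintype.ofFinite _) :=
      @Nat.card_eq_fintype_card _ (Fintype.ofFinite _)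
    rw [← Nat.card_eq_fintype_card, h2, h3]

theorem exists_fixed [Fintype F] (τ : RingAut F) : ∃ (F₀ : Type u) (_ : Field F₀) (_ : Fintype F₀) (ι : F₀ →+* F),
    (∀ x, τ (ι x) = ι x) ∧ Fintype.card F = Fintype.card F₀ ^ orderOf τ := by
  obtain ⟨F₀, h1, h2, ι, h3, -, h5⟩ := exists_fixed' τ
  exact ⟨F₀, h1, h2, ι, h3, h5⟩

/-- commuting products -/
theorem order_prod {ψ : MulAut ↥(chevE7.group F)} {x : ↥(chevE7.group F)} (hx : ψ x = x)
    (hco : (orderOf x).Coprime (orderOf ψ)) : orderOf (MulAut.conj x * ψ) = orderOf x * orderOf ψ := by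
  have h1 : orderOf (MulAut.conj x) = orderOf x := orderOf_injective _ (conj_injective hD) x
  have h2 : Commute (MulAut.conj x) ψ := by
    apply MulEquiv.ext
    intro y
    rw [MulAut.mul_apply, MulAut.mul_apply, MulAut.conj_apply, MulAut.conj_apply, map_mul, map_mul, map_inv, hx]
  rw [h2.orderOf_mul_eq_mul_orderOf_of_coprime (by rwa [h1]), h1]


theorem od_pow {q₀ l r i : ℕ} (h : orderOf (q₀ : ZMod r) = i) (hc : Nat.Coprime i l) (hl : l ≠ 0) :
    orderOf ((q₀ ^ l : ℕ) : ZMod r) = i := by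
  rw [Nat.cast_pow, orderOf_pow' _ hl, h, hc, Nat.div_one]

/-- the overgroups of the inner automorphisms all of whose element orders are element orders of the group -/
structure Ov (A : Subgroup (MulAut ↥(chevE7.group F))) : Prop where
  inn : (MulAut.conj : ↥(chevE7.group F) →* MulAut ↥(chevE7.group F)).range ≤ A
  ord : ∀ a ∈ A, ∃ y : ↥(chevE7.group F), orderOf y = orderOf a

section Main

variable [Fintype F] {A : Subgroup (MulAut ↥(chevE7.group F))} (hA : Ov A)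

include hA

theorem Ov.pf {ψ : MulAut ↥(chevE7.group F)} {τ : RingAut F} (hψ : ψ ∈ A) (h : PF ψ τ) {F₀ : Type u} [Field F₀]
    (ι : F₀ →+* F) (hτ : ∀ x, τ (ι x) = ι x) (x : ↥(chevE7.group F₀)) (hco : (orderOf x).Coprime (orderOf τ)) :
    ∃ y : ↥(chevE7.group F), orderOf y = orderOf x * orderOf τ := by
  have h1 := h.fix ι hτ x
  have h2 : orderOf (emb hD ι x) = orderOf x := orderOf_injective _ (emb_injective hD ι) x
  have h3 := order_prod h1 (by rw [h2, h.orderOf]; exact hco)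
  rw [h2, h.orderOf] at h3
  rw [← h3]
  exact hA.ord _ (mul_mem (hA.inn ⟨_, rfl⟩) hψ)

/-- **no pure field automorphisms of odd prime order** -/
theorem Ov.no_pf_odd {ψ : MulAut ↥(chevE7.group F)} {τ : RingAut F} (hψ : ψ ∈ A) (h : PF ψ τ) {l : ℕ}
    (hl : l.Prime) (hl2 : l ≠ 2) (ho : orderOf τ = l) : False := by
  obtain ⟨F₀, _, _, ι, hτ, hcard⟩ := exists_fixed τ
  rw [ho] at hcard
  obtain ⟨q₀, hq₀⟩ : ∃ q₀, Fintype.card F₀ = q₀ := ⟨_, rfl⟩
  obtain ⟨q, hq⟩ : ∃ q, Fintype.card F = q := ⟨_, rfl⟩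
  rw [hq₀, hq] at hcard
  have hq₀2 : 2 ≤ q₀ := by rw [← hq₀]; exact Fintype.one_lt_card
  have hq2 : 2 ≤ q := by rw [← hq]; exact Fintype.one_lt_card
  have key : ∀ i, (i = 7 ∨ i = 9 ∨ i = 14 ∨ i = 18) → Nat.Coprime i l → ∃ r : ℕ, r.Prime ∧
      orderOf (q : ZMod r) = i ∧ (r ≠ l → ∃ y : ↥(chevE7.group F), orderOf y = r * l) := by
    intro i hi hil
    obtain ⟨r, hr, hor⟩ := Lib.Zsigmondy.exists_prime_orderOf (a := q₀) (n := i) hq₀2 (by omega) (by omega) (by omega)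
    refine ⟨r, hr, ?_, fun hrl => ?_⟩
    · rw [hcard]
      exact od_pow hor hil hl.ne_zero
    · obtain ⟨x, hx⟩ := Cross.exists_ord (F := F₀) hq₀ hr (by rw [hor]; tauto)
      have h1 := hA.pf hψ h ι hτ x (by rw [hx, ho]; exact (Nat.coprime_primes hr hl).2 hrl)
      rwa [hx, ho] at h1
  -- `l` does not divide both numbers
  have fin : ∀ N : ℕ, l ∣ q ^ N - 1 → l ∣ q ^ N + 1 → False := by
    intro N h1 h2
    have h3 := Nat.dvd_sub h2 h1
    have h4 : q ^ N + 1 - (q ^ N - 1) = 2 := by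
      have : 1 ≤ q ^ N := Nat.one_le_pow _ _ (by omega)
      omega
    rw [h4] at h3
    exact hl2 ((Nat.prime_dvd_prime_iff_eq hl Nat.prime_two).1 h3)
  by_cases hl7 : l = 7
  · subst hl7
    obtain ⟨r, hr, ho9, h9⟩ := key 9 (by tauto) (by norm_num)
    obtain ⟨r', hr', ho18, h18⟩ := key 18 (by tauto) (by norm_num)
    have hr7 : r ≠ 7 := by
      rintro rfl
      have := (Tor.od_facts hr ho9 (by norm_num)).2
      norm_num at this
    have hr7' : r' ≠ 7 := by
      rintro rfl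
      have := (Tor.od_facts hr' ho18 (by norm_num)).2
      norm_num at this
    obtain ⟨y, hy⟩ := h9 hr7
    obtain ⟨y', hy'⟩ := h18 hr7'
    have b9 := (Dvd.intro_left (dd q) rfl).trans (Tor.bound9 hq hr ho9 (g := y) (by rw [hy]; exact Dvd.intro _ rfl))
    have b18 := (Dvd.intro_left (dd q) rfl).trans (Tor.bound18 hq hr' ho18 (g := y') (by rw [hy']; exact Dvd.intro _ rfl))
    rw [hy] at b9
    rw [hy'] at b18
    have c9 := (Dvd.intro_left r rfl).trans b9
    have c18 := (Dvd.intro_left r' rfl).trans b18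
    apply fin 9
    · rcases hl.dvd_mul.1 c9 with h1 | h1
      · exact h1.trans (by simpa using Nat.sub_dvd_pow_sub_pow q 1 9)
      · refine h1.trans ⟨q ^ 3 - 1, ?_⟩
        zify [Nat.one_le_pow 9 q (by omega), Nat.one_le_pow 3 q (by omega)]
        ring
    · have hle : q ^ 3 ≤ q ^ 6 := Nat.pow_le_pow_right (by omega) (by norm_num)
      rcases hl.dvd_mul.1 c18 with h1 | h1
      · refine h1.trans (Int.natCast_dvd_natCast.1 ⟨(q : ℤ) ^ 8 - (q : ℤ) ^ 7 + (q : ℤ) ^ 6 - (q : ℤ) ^ 5 + (q : ℤ) ^ 4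
          - (q : ℤ) ^ 3 + (q : ℤ) ^ 2 - (q : ℤ) + 1, ?_⟩)
        push_cast
        ring
      · refine h1.trans ⟨q ^ 3 + 1, ?_⟩
        zify [hle]
        ring
  · have hc7 : Nat.Coprime 7 l := (Nat.coprime_primes (by norm_num) hl).2 (Ne.symm hl7)
    have hc14 : Nat.Coprime 14 l :=
      Nat.Coprime.mul_left ((Nat.coprime_primes Nat.prime_two hl).2 (Ne.symm hl2)) hc7
    by_cases hd7 : l ∣ q ^ 7 - 1
    · obtain ⟨r, hr, ho14, h14⟩ := key 14 (by tauto) hc14
      have hrl : r ≠ l := by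
        rintro rfl
        rw [Cross.dvd_iff_od (by omega), ho14] at hd7
        norm_num at hd7
      obtain ⟨y, hy⟩ := h14 hrl
      have b := (Dvd.intro_left (dd q) rfl).trans (Tor.bound14 hq hr ho14 (g := y) (by rw [hy]; exact Dvd.intro _ rfl))
      rw [hy] at b
      exact fin 7 hd7 ((Dvd.intro_left r rfl).trans b)
    · obtain ⟨r, hr, ho7, h7⟩ := key 7 (by tauto) hc7
      have hrl : r ≠ l := by
        rintro rfl
        exact hd7 ((Cross.dvd_iff_od (by omega)).2 (by rw [ho7]))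
      obtain ⟨y, hy⟩ := h7 hrl
      have b := (Dvd.intro_left (dd q) rfl).trans (Tor.bound7 hq hr ho7 (g := y) (by rw [hy]; exact Dvd.intro _ rfl))
      rw [hy] at b
      exact hd7 ((Dvd.intro_left r rfl).trans b)

/-- **no pure field automorphisms of order two in characteristic two** -/
theorem Ov.no_pf_two {ψ : MulAut ↥(chevE7.group F)} {τ : RingAut F} (hψ : ψ ∈ A) (h : PF ψ τ)
    (hev : Even (Fintype.card F)) (ho : orderOf τ = 2) : False := by
  obtain ⟨F₀, _, _, ι, hτ, hcard⟩ := exists_fixed τ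
  rw [ho] at hcard
  obtain ⟨q₀, hq₀⟩ : ∃ q₀, Fintype.card F₀ = q₀ := ⟨_, rfl⟩
  obtain ⟨q, hq⟩ : ∃ q, Fintype.card F = q := ⟨_, rfl⟩
  rw [hq₀, hq] at hcard
  rw [hq] at hev
  have hq₀2 : 2 ≤ q₀ := by rw [← hq₀]; exact Fintype.one_lt_card
  have hq2 : 2 ≤ q := by rw [← hq]; exact Fintype.one_lt_card
  obtain ⟨r, hr, hor⟩ := Lib.Zsigmondy.exists_prime_orderOf (a := q₀) (n := 7) hq₀2 (by omega) (by omega) (by omega)
  have ho7 : orderOf (q : ZMod r) = 7 := by
    rw [hcard]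
    exact od_pow hor (by norm_num) (by norm_num)
  obtain ⟨x, hx⟩ := Cross.exists_ord (F := F₀) hq₀ hr (by rw [hor]; tauto)
  obtain ⟨y, hy⟩ := hA.pf hψ h ι hτ x (by
    rw [hx, ho]; exact (Nat.coprime_primes hr Nat.prime_two).2 (Tor.od_facts hr ho7 (by norm_num)).1)
  rw [hx, ho] at hy
  have b := (Dvd.intro_left (dd q) rfl).trans (Tor.bound7 hq hr ho7 (g := y) (by rw [hy]; exact Dvd.intro _ rfl))
  rw [hy] at b
  have c := (Dvd.intro_left r rfl).trans b
  have h1 : 1 ≤ q ^ 7 := Nat.one_le_pow _ _ (by omega)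
  obtain ⟨m, hm⟩ := hev.pow_of_ne_zero (n := 7) (by norm_num)
  omega

end Main

end Cfsg.Agent.H824.E7.Aut
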