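import Cfsg.Agent.H824.E7.Tor
import Cfsg.Agent.H407.MFrob
import Cfsg.Agent.H111.Fpf.SevenRad
import Cfsg.Agent.H373.Recog
import Cfsg.Agent.Lib.Zsigmondy

/-!
# `E₇(q)`: covers in cross characteristic (helper824)

`cov_cross` : for every prime `t` not dividing `q` and every nonzero elementary abelian `t`-group `V` on which
`L = E₇(q)` acts there are `x : L`, `v : V` with `∑ x ^ i v ≠ 0` and no element of `L` has order `t * orderOf x`.
-/

set_option autoImplicit false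
set_option linter.unusedSectionVars false

namespace Cfsg.Agent.H824.E7.Cross

open Cfsg CoxeterSystem Cfsg.Agent.ChevalleyStructure.CoxeterGeom Cfsg.Agent.Tits.Roots Cfsg.Agent.Tits.Core
  Cfsg.Agent.Nodes.Reps Cfsg.Agent.Nodes.BNOf Cfsg.Agent.Nodes.StabComb Cfsg.Agent.Nodes.LeviDec
  Cfsg.Agent.H134.StrP Cfsg.Agent.ChevalleyStructure Cfsg.Agent.ChevalleyStructure.CoxeterGeomTypes
  Cfsg.Agent.Nodes.RGDChev Cfsg.Lie Cfsg.Agent.H378.ExcAdj Cfsg.Agent.H378 Cfsg.Agent.H111.Fpf.SevenPar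
  Cfsg.Agent.H111.Fpf.SevenRad Cfsg.Agent.KFacts.RgdCharP Cfsg.Agent.Nodes.Bruhat Cfsg.Agent.Nodes.NormalForm
  Cfsg.Agent.KFacts.RgdField Cfsg.Agent.KFacts.RgdChevCoord Cfsg.Agent.BpExc.TorCent
  Cfsg.Agent.H129.TorusChar Cfsg.Agent.H824.E7.Tor Cfsg.Agent.H407.MF

open Cfsg.Agent.H35.ExcIdx (hpE7)
open Cfsg.Agent.H129

universe u v

section Torus

variable {F : Type u} [Field F] [Fintype F] (p : ℕ) [Fact p.Prime] [CharP F p]

/-- the torus element with the character `x ↦ s ^ x j` -/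
theorem exists_z (j : Fin 7) {a s : F} (ha : a ≠ 0) (hs : a ^ 2 = s) :
    ∃ z ∈ TT chevE7 F, ∀ x, cX hpE7 z x = s ^ x j := by
  have hs0 : s ≠ 0 := by rw [← hs]; exact pow_ne_zero 2 ha
  refine exists_cX hpE7 invC_E7 (by norm_num) (φ := fun x => s ^ x j) ⟨?_, ?_⟩ ?_
  · show s ^ (0 : ℤ) = 1
    rw [zpow_zero]
  · intro x y
    show s ^ (x j + y j) = _
    rw [zpow_add₀ hs0]
  · intro i
    by_cases hij : i = j
    · subst hij
      exact ⟨a, by show a ^ 2 = s ^ (sr i i : ℤ); rw [sr_self, zpow_one, hs]⟩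
    · exact ⟨1, by show 1 ^ 2 = s ^ (sr i j : ℤ); rw [sr_ne (Ne.symm hij), zpow_zero, one_pow]⟩

theorem z_pow {j : Fin 7} {s : F} {z : ↥(chevE7.group F)} (hz : z ∈ TT chevE7 F)
    (h : ∀ x, cX hpE7 z x = s ^ x j) (n : ℕ) : (∀ x, cX hpE7 (z ^ n) x = (s ^ n) ^ x j) ∧ (z ^ n = 1 ↔ s ^ n = 1) := by
  have h1 : ∀ x, cX hpE7 (z ^ n) x = (s ^ n) ^ x j := fun x => by
    rw [cX_pow hpE7 hz, h, ← zpow_natCast, ← zpow_natCast, ← zpow_mul, ← zpow_mul, mul_comm]
  refine ⟨h1, ?_, ?_⟩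
  · intro hn
    have h2 := h1 (sr j)
    rw [hn, cX_one, sr_self, zpow_one] at h2
    exact h2.symm
  · intro hn
    apply cX_inj hpE7 (pow_mem hz n) (one_mem _)
    intro i
    rw [h1, hn, one_zpow, cX_one]

end Torus


section Levi

variable {F : Type u} [Field F] [Fintype F] (p : ℕ) [Fact p.Prime] [CharP F p]

local notation "cs7" => CoxeterMatrix.E₇.toCoxeterSystem

/-- the Levi factor -/
abbrev L7 (F : Type u) [Field F] (J : List (Fin 7)) : Subgroup ↥(chevE7.group F) :=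
  LJ cs7 hpE7.isCartan (TT chevE7 F) (XX chevE7 7 F) {j | j ∈ J}

theorem ch_eq_pow {j : Fin 7} {s : F} {z : ↥(chevE7.group F)} (hz : z ∈ TT chevE7 F)
    (h : ∀ x, cX hpE7 z x = s ^ x j) {x : Fin 7 → ℤ} (hx : IsRoot cs7 hpE7.isCartan x) :
    ch hpE7 x z = s ^ x j := by
  rw [← cX_root hpE7 cs7 hz hx, h]

include p in
theorem comm_L7 {J : List (Fin 7)} {j : Fin 7} (hJ : j ∉ J) {s : F} {z : ↥(chevE7.group F)} (hz : z ∈ TT chevE7 F)
    (h : ∀ x, cX hpE7 z x = s ^ x j) {y : ↥(chevE7.group F)} (hy : y ∈ L7 F J) : z * y = y * z := by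
  have C := coords hpE7 cs7 (K := F) p
  have h1 : L7 F J ≤ Subgroup.centralizer {z} := by
    refine sup_le ?_ (RGD.Sup_le fun x hx => ?_)
    · intro t ht
      rw [Subgroup.mem_centralizer_singleton_iff]
      exact BpExc.TorChev.TT_comm hpE7 t ht z hz
    · apply X_le_centralizer C hz
      refine ⟨hx.1, ?_⟩
      rw [ch_eq_pow hz h hx.1, hx.2 j hJ, zpow_zero]
  exact (Subgroup.mem_centralizer_singleton_iff.1 (h1 hy)).symm


include p in
/-- an element of order `r` of the Levi factor -/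
theorem exists_y {J : List (Fin 7)} {r : ℕ} (hr : r.Prime) (hrp : r ≠ p) (h : r ∣ Nat.card ↥(P7 F J)) :
    ∃ y ∈ L7 F J, orderOf y = r := by
  have := finite_W hpE7 cs7
  have R := rgdK F p
  have hf : Fact r.Prime := ⟨hr⟩
  -- the product
  let f : ↥(L7 F J) × ↥(V7 F J) → ↥(P7 F J) := fun a =>
    ⟨(a.1 : ↥(chevE7.group F)) * a.2, mul_mem (LJ_le_PJ a.1.2) (VJ_le_PJ a.2.2)⟩
  have hfs : Function.Surjective f := by
    rintro ⟨g, hg⟩
    obtain ⟨l, hl, v, hv, e⟩ := (mem_PJ R).1 hg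
    exact ⟨(⟨l, hl⟩, ⟨v, hv⟩), Subtype.ext e.symm⟩
  have hfi : Function.Injective f := by
    rintro ⟨⟨l, hl⟩, ⟨v, hv⟩⟩ ⟨⟨l', hl'⟩, ⟨v', hv'⟩⟩ he
    have he' : l * v = l' * v' := congrArg Subtype.val he
    have h1 : l'⁻¹ * l = v' * v⁻¹ := by
      rw [inv_mul_eq_iff_eq_mul, ← mul_assoc, ← he', mul_inv_cancel_right]
    have h2 : l'⁻¹ * l ∈ L7 F J ⊓ V7 F J := by
      refine Subgroup.mem_inf.2 ⟨mul_mem (inv_mem hl') hl, ?_⟩
      rw [h1]
      exact mul_mem hv' (inv_mem hv)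
    rw [LJ_inf_VJ R, Subgroup.mem_bot] at h2
    have h3 : v' * v⁻¹ = 1 := by rw [← h1, h2]
    have e1 : l' = l := inv_mul_eq_one.1 h2
    have e2 : v' = v := mul_inv_eq_one.1 h3
    subst e1; subst e2; rfl
  have hc := Nat.card_congr (Equiv.ofBijective f ⟨hfi, hfs⟩)
  rw [Nat.card_prod] at hc
  rw [← hc] at h
  rcases hr.dvd_mul.1 h with h1 | h1
  · obtain ⟨⟨y, hy⟩, hyo⟩ := exists_prime_orderOf_dvd_card' (G := ↥(L7 F J)) r h1
    rw [Subgroup.orderOf_mk] at hyo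
    exact ⟨y, hy, hyo⟩
  · exfalso
    obtain ⟨k, hk⟩ := (IsPGroup.iff_card (p := p)).1 (isPGroup_VJ R {j | j ∈ J})
    rw [hk] at h1
    exact hrp ((Nat.prime_dvd_prime_iff_eq hr Fact.out).1 (hr.dvd_of_dvd_pow h1))

include p in
/-- the torus element acts without fixed points on the radical -/
theorem fpf_z {J : List (Fin 7)} {j : Fin 7} (hJ : ∀ i, i ∈ J ↔ i ≠ j) {s : F} {z : ↥(chevE7.group F)}
    (hz : z ∈ TT chevE7 F) (h : ∀ x, cX hpE7 z x = s ^ x j)
    (hs : ∀ x : Fin 7 → ℤ, IsRoot cs7 hpE7.isCartan x → 0 < x j → s ^ x j ≠ 1)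
    {v : ↥(chevE7.group F)} (hv : v ∈ V7 F J) (hc : z * v * z⁻¹ = v) : v = 1 := by
  have := finite_W hpE7 cs7
  have R := rgdK F p
  have C := coords hpE7 cs7 (K := F) p
  have h1 : v ∈ RGD.Sup (XX chevE7 7 F) (RGD.Pos cs7 hpE7.isCartan) ⊓ Subgroup.centralizer {z} := by
    refine Subgroup.mem_inf.2 ⟨VJ_le_U _ hv, ?_⟩
    rw [Subgroup.mem_centralizer_singleton_iff]
    have h2 : z * v = v * z := by
      calc z * v = z * v * z⁻¹ * z := by group
        _ = v * z := by rw [hc]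
    exact h2.symm
  rw [centralizer_U R (S := {z}) (Set.singleton_subset_iff.2 hz)] at h1
  have h2 : RGD.Sup (fun x => XX chevE7 7 F x ⊓ Subgroup.centralizer {z}) (RGD.Pos cs7 hpE7.isCartan) ≤
      UJ cs7 hpE7.isCartan (XX chevE7 7 F) {i | i ∈ J} := by
    refine RGD.Sup_le fun x hx => ?_
    rintro u ⟨hu, hcu⟩
    by_cases hu1 : u = 1
    · rw [hu1]; exact one_mem _
    · have h3 := mem_Sx_of_centralizer C hz hx.1 hu hu1 hcu
      have h4 : s ^ x j = 1 := by rw [← ch_eq_pow hz h hx.1]; exact h3.2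
      refine RGD.le_Sup (S := PosJ cs7 hpE7.isCartan {i | i ∈ J}) ⟨hx.1, hx.2, fun k hk => ?_⟩ hu
      have hkj : k = j := by
        by_contra hkj
        exact hk ((hJ k).2 hkj)
      subst hkj
      rcases lt_or_eq_of_le (hx.2 k) with h5 | h5
      · exact absurd h4 (hs x hx.1 h5)
      · exact h5.symm
  have h3 : v ∈ UJ cs7 hpE7.isCartan (XX chevE7 7 F) {i | i ∈ J} ⊓ V7 F J := Subgroup.mem_inf.2 ⟨h2 h1, hv⟩
  rw [UJ_inf_VJ R, Subgroup.mem_bot] at h3
  exact h3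


/-- squares of given order -/
theorem exists_sq {n : ℕ} (h : n ∣ (Fintype.card F - 1) / dd (Fintype.card F)) :
    ∃ a s : F, a ≠ 0 ∧ a ^ 2 = s ∧ orderOf s = n := by
  classical
  obtain ⟨g, hg⟩ := IsCyclic.exists_generator (α := Fˣ)
  have hgo : orderOf g = Fintype.card F - 1 := by
    rw [orderOf_eq_card_of_forall_mem_zpowers hg, Nat.card_eq_fintype_card, Fintype.card_units]
  have hq0 : 0 < Fintype.card F - 1 := by
    have := Fintype.one_lt_card (α := F)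
    omega
  have h2 : orderOf (g ^ 2) = (Fintype.card F - 1) / dd (Fintype.card F) := by
    rw [orderOf_pow, hgo, Nat.gcd_comm]
  have hm0 : (Fintype.card F - 1) / dd (Fintype.card F) ≠ 0 :=
    (Nat.div_pos (Nat.le_of_dvd hq0 (Nat.gcd_dvd_right _ _)) (Nat.gcd_pos_of_pos_left _ (by norm_num))).ne'
  obtain ⟨c, hc⟩ := h
  have hc0 : c ≠ 0 := by
    rintro rfl
    rw [mul_zero] at hc
    exact hm0 hc
  refine ⟨((g ^ c : Fˣ) : F), ((g ^ c : Fˣ) : F) ^ 2, Units.ne_zero _, rfl, ?_⟩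
  have e : ((g ^ c : Fˣ) : F) ^ 2 = (((g ^ 2) ^ c : Fˣ) : F) := by
    push_cast
    rw [← pow_mul, ← pow_mul, mul_comm]
  rw [e, orderOf_units, orderOf_pow_of_dvd hc0 (by rw [h2, hc]; exact Dvd.intro_left _ rfl), h2, hc]
  exact Nat.mul_div_cancel _ (Nat.pos_of_ne_zero hc0)

/-- commuting elements: an element of order `p r` -/
theorem exists_order {G : Type*} [Group G] [Finite G] {V : Subgroup G} (hV : IsPGroup p V) {v w : G} (hv : v ∈ V)
    (hv1 : v ≠ 1) {r : ℕ} (hr : r.Prime) (hrp : r ≠ p) (hw : r ∣ orderOf w) (hc : w * v = v * w) :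
    ∃ g : G, orderOf g = p * r := by
  have hpp : p.Prime := Fact.out
  have hp : p ∣ orderOf v := by
    obtain ⟨e, he⟩ := hV ⟨v, hv⟩
    have h1 : v ^ p ^ e = 1 := congrArg Subtype.val he
    obtain ⟨i, -, hi⟩ := (Nat.dvd_prime_pow hpp).1 (orderOf_dvd_of_pow_eq_one h1)
    rw [hi]
    refine dvd_pow_self p ?_
    rintro rfl
    rw [pow_zero, orderOf_eq_one_iff] at hi
    exact hv1 hi
  obtain ⟨a, ha⟩ := hp
  obtain ⟨b, hb⟩ := hw
  have ha0 : a ≠ 0 := by
    rintro rfl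
    rw [mul_zero] at ha
    exact (orderOf_pos v).ne' ha
  have hb0 : b ≠ 0 := by
    rintro rfl
    rw [mul_zero] at hb
    exact (orderOf_pos w).ne' hb
  have h1 : orderOf (v ^ a) = p := by
    rw [orderOf_pow_of_dvd ha0 (Dvd.intro_left _ ha.symm), ha]
    exact Nat.mul_div_cancel _ (Nat.pos_of_ne_zero ha0)
  have h2 : orderOf (w ^ b) = r := by
    rw [orderOf_pow_of_dvd hb0 (Dvd.intro_left _ hb.symm), hb]
    exact Nat.mul_div_cancel _ (Nat.pos_of_ne_zero hb0)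
  refine ⟨v ^ a * w ^ b, ?_⟩
  have h3 : Commute (v ^ a) (w ^ b) := (Commute.pow_pow (show Commute v w from hc.symm) a b)
  rw [Commute.orderOf_mul_eq_mul_orderOf_of_coprime h3 (by
    rw [h1, h2]; exact (Nat.coprime_primes hpp hr).2 hrp.symm), h1, h2]

include p in
/-- **the Frobenius configuration** -/
theorem frob {J : List (Fin 7)} {j : Fin 7} (hJ : ∀ i, i ∈ J ↔ i ≠ j) (hj : ∃ i : Fin 7, i ∉ J) {r t k : ℕ} (hr : r.Prime) (hrp : r ≠ p)
    (hrP : r ∣ Nat.card ↥(P7 F J)) (hno : ¬ ∃ g : ↥(chevE7.group F), orderOf g = p * r) (ht : t.Prime) (htr : t ≠ r)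
    (hk : t ^ k ∣ (Fintype.card F - 1) / dd (Fintype.card F))
    (hcoef : ∀ x : Fin 7 → ℤ, IsRoot cs7 hpE7.isCartan x → x j ≤ 1 ∨ x j ≤ 2 ∧ (t ≠ 2 ∨ k = 0)) :
    ∃ x : ↥(chevE7.group F), FrobAt p (t ^ k * r) (V7 F J) x := by
  have := finite_W hpE7 cs7
  have R := rgdK F p
  have hfr : Fact r.Prime := ⟨hr⟩
  have hpp : p.Prime := Fact.out
  have hq0 : 0 < Fintype.card F - 1 := by
    have := Fintype.one_lt_card (α := F)
    omega
  -- the field element
  obtain ⟨a, s, ha, hs, hso⟩ := exists_sq hk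
  obtain ⟨z, hz, hzX⟩ := exists_z j ha hs
  have hzo : orderOf z = t ^ k := by
    rw [← hso, orderOf_eq_orderOf_iff]
    exact fun n => (z_pow hz hzX n).2
  obtain ⟨y, hy, hyo⟩ := exists_y p hr hrp hrP
  have hjJ : j ∉ J := fun h => (hJ j).1 h rfl
  have hzy : Commute z y := comm_L7 p hjJ hz hzX hy
  have hco : Nat.Coprime (t ^ k) r := Nat.Coprime.pow_left k ((Nat.coprime_primes ht hr).2 htr)
  have hxo : orderOf (z * y) = t ^ k * r := by
    rw [Commute.orderOf_mul_eq_mul_orderOf_of_coprime hzy (by rw [hzo, hyo]; exact hco), hzo, hyo]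
  refine ⟨z * y, isPGroup_VJ R _, VJ_ne_bot R hj, hxo, ?_, ?_, ?_⟩
  · exact Nat.mul_pos (pow_pos ht.pos k) hr.pos
  · intro v hv
    have h1 : z * y ∈ Subgroup.normalizer (V7 F J : Set ↥(chevE7.group F)) := by
      apply LJ_le_normalizer_VJ R
      exact mul_mem (Subgroup.mem_sup_left hz) hy
    exact (Subgroup.mem_normalizer_iff.1 h1 v).1 hv
  · intro i hi hiN v hv hfix
    by_cases hri : r ∣ i
    · -- a power of `z`
      obtain ⟨m, rfl⟩ := hri
      have e : (z * y) ^ (r * m) = z ^ (r * m) := by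
        rw [hzy.mul_pow, pow_mul y, ← hyo, pow_orderOf_eq_one, one_pow, mul_one]
      rw [e] at hfix
      have hsn : s ^ (r * m) ≠ 1 := by
        intro h1
        have h2 := orderOf_dvd_of_pow_eq_one h1
        rw [hso] at h2
        have h3 : t ^ k ∣ m := hco.dvd_of_dvd_mul_left h2
        have h4 : t ^ k * r ∣ r * m := by rw [mul_comm]; exact mul_dvd_mul_left r h3
        exact absurd (Nat.le_of_dvd hi h4) (not_le.2 hiN)
      refine fpf_z p hJ (pow_mem hz _) (z_pow hz hzX _).1 (fun x hx h0 h1 => hsn ?_) hv hfix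
      rcases hcoef x hx with h2 | ⟨h2, h3⟩
      · have h4 : x j = 1 := le_antisymm h2 h0
        rwa [h4, zpow_one] at h1
      · by_cases h4 : x j = 1
        · rwa [h4, zpow_one] at h1
        · have h5 : x j = 2 := by omega
          rw [h5] at h1
          have h6 : (s ^ (r * m)) ^ 2 = 1 := by exact_mod_cast h1
          have h7 : (s ^ (r * m)) ^ (t ^ k) = 1 := by
            rw [← pow_mul, mul_comm, pow_mul, ← hso, pow_orderOf_eq_one, one_pow]
          have h8 := Nat.dvd_gcd (orderOf_dvd_of_pow_eq_one h6) (orderOf_dvd_of_pow_eq_one h7)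
          have h9 : Nat.gcd 2 (t ^ k) = 1 := by
            rcases h3 with h3 | h3
            · exact Nat.Coprime.pow_right k ((Nat.coprime_primes Nat.prime_two ht).2 (Ne.symm h3))
            · rw [h3, pow_zero, Nat.gcd_one_right]
          rw [h9, Nat.dvd_one, orderOf_eq_one_iff] at h8
          exact h8
    · -- an element of order `p r`
      by_contra hv1
      apply hno
      refine exists_order p (isPGroup_VJ R {j | j ∈ J}) hv hv1 hr hrp ?_ (w := (z * y) ^ i) ?_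
      · rw [orderOf_pow, hxo]
        have h1 : r ∣ t ^ k * r / Nat.gcd (t ^ k * r) i * Nat.gcd (t ^ k * r) i := by
          rw [Nat.div_mul_cancel (Nat.gcd_dvd_left _ _)]
          exact Dvd.intro_left _ rfl
        rcases hr.dvd_mul.1 h1 with h2 | h2
        · exact h2
        · exact absurd (h2.trans (Nat.gcd_dvd_right _ _)) hri
      · calc (z * y) ^ i * v = (z * y) ^ i * v * ((z * y) ^ i)⁻¹ * (z * y) ^ i := by group
          _ = v * (z * y) ^ i := by rw [hfix]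


end Levi

section Num

theorem num_aux {d m N t k r : ℕ} (hd : 0 < d) (ht : t.Prime) (hN : ¬ t ∣ N) (hk : ¬ t ^ (k + 1) ∣ m)
    (h : d * (t ^ (k + 1) * r) ∣ d * m * N) : False := by
  rw [mul_assoc] at h
  have h1 := Nat.dvd_of_mul_dvd_mul_left hd h
  exact hk (Nat.Coprime.dvd_of_dvd_mul_right (Nat.Coprime.pow_left _ ((ht.coprime_iff_not_dvd).2 hN))
    ((Dvd.intro r rfl).trans h1))

/-- the exact power of a prime -/
theorem exists_exact {t m : ℕ} (ht : t.Prime) (hm : m ≠ 0) : ∃ k, t ^ k ∣ m ∧ ¬ t ^ (k + 1) ∣ m := by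
  have := Fact.mk ht
  exact ⟨padicValNat t m, pow_padicValNat_dvd, pow_succ_padicValNat_not_dvd hm⟩

end Num

section Main

variable {F : Type u} [Field F] [Fintype F] (p : ℕ) [Fact p.Prime] [CharP F p]

local notation "cs7" => CoxeterMatrix.E₇.toCoxeterSystem

theorem coef6 {x : Fin 7 → ℤ} (hx : IsRoot cs7 hpE7.isCartan x) : x 6 ≤ 1 := by
  obtain ⟨r, hr, rfl⟩ := (isRoot_iff hpE7 _ x).1 hx
  exact coef_le r hr

theorem coef1_aux : ∀ r < chevE7.nroots, ChevalleyStructure.RootVec.rt chevE7 r 1 ≤ 2 := by decide +kernel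

theorem coef1 {x : Fin 7 → ℤ} (hx : IsRoot cs7 hpE7.isCartan x) : x 1 ≤ 2 := by
  obtain ⟨r, hr, rfl⟩ := (isRoot_iff hpE7 _ x).1 hx
  exact coef1_aux r hr


/-- elements of order `r`, `r` of index 7, 9, 14, 18 -/
theorem exists_ord {q : ℕ} (hq : Fintype.card F = q) {r : ℕ} (hr : r.Prime)
    (ho : orderOf (q : ZMod r) = 7 ∨ orderOf (q : ZMod r) = 9 ∨ orderOf (q : ZMod r) = 14 ∨
      orderOf (q : ZMod r) = 18) : ∃ g : ↥(chevE7.group F), orderOf g = r := by
  have hfr : Fact r.Prime := ⟨hr⟩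
  have hq1 : 1 ≤ q := by rw [← hq]; exact Fintype.card_pos
  have key : ∀ (T : Subgroup ↥(chevE7.group F)) (N : ℕ), dd q * Nat.card ↥T = N → r ≠ 2 → r ∣ N →
      ∃ g : ↥(chevE7.group F), orderOf g = r := by
    intro T N hc h2 hN
    obtain ⟨⟨g, hg⟩, hgo⟩ := exists_prime_orderOf_dvd_card' (G := ↥T) r (dvd_of_torus hr h2 hN hc)
    rw [Subgroup.orderOf_mk] at hgo
    exact ⟨g, hgo⟩
  rcases ho with ho | ho | ho | ho
  · have hN : ((q ^ 7 - 1 : ℕ) : ℤ) = -1 + (q : ℤ) ^ 7 := by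
      push_cast [Nat.cast_sub (Nat.one_le_pow 7 q hq1)]; ring
    obtain ⟨hW, h2, h3, h7⟩ := not_W hr ho (by norm_num) (by norm_num)
    obtain ⟨T, -, hc, -⟩ := tor hq DataE7s.hA DataE7s.chainOK DataE7s.cycOK DataE7s.rootOK
      (N := q ^ 7 - 1) (by rw [DataE7s.fN_eq, hN]) (RealT.coprime_of_neg (a := (q : ℤ) ^ 6) (by rw [hN]; ring))
    have hd := CycTab.dvd7 hr ho
    rw [CycTab.pv7] at hd
    refine key T _ hc h2 (Int.natCast_dvd_natCast.1 ?_)
    rw [hN]
    exact hd.trans ⟨(q : ℤ) - 1, by ring⟩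
  · have hN : (((q - 1) * (q ^ 6 + q ^ 3 + 1) : ℕ) : ℤ) =
        -1 + (q : ℤ) - (q : ℤ) ^ 3 + (q : ℤ) ^ 4 - (q : ℤ) ^ 6 + (q : ℤ) ^ 7 := by
      push_cast [Nat.cast_sub hq1]; ring
    obtain ⟨hW, h2, h3, h7⟩ := not_W hr ho (by norm_num) (by norm_num)
    obtain ⟨T, -, hc, -⟩ := tor hq DataE7n.hA DataE7n.chainOK DataE7n.cycOK DataE7n.rootOK
      (N := (q - 1) * (q ^ 6 + q ^ 3 + 1)) (by rw [DataE7n.fN_eq, hN])
      (RealT.coprime_of_neg (a := 1 - (q : ℤ) ^ 2 + (q : ℤ) ^ 3 - (q : ℤ) ^ 5 + (q : ℤ) ^ 6) (by rw [hN]; ring))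
    have hd := CycTab.dvd9 hr ho
    rw [CycTab.pv9] at hd
    refine key T _ hc h2 (Int.natCast_dvd_natCast.1 ?_)
    rw [hN]
    exact hd.trans ⟨(q : ℤ) - 1, by ring⟩
  · have hN : ((q ^ 7 + 1 : ℕ) : ℤ) = 1 + (q : ℤ) ^ 7 := by push_cast; ring
    obtain ⟨hW, h2, h3, h7⟩ := not_W hr ho (by norm_num) (by norm_num)
    obtain ⟨T, -, hc, -⟩ := tor hq DataE7m.hA DataE7m.chainOK DataE7m.cycOK DataE7m.rootOK (N := q ^ 7 + 1)
      (by rw [DataE7m.fN_eq, hN]) (UntwData.coprime_of_eq (a := (q : ℤ) ^ 6) (by rw [hN]; ring))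
    have hd := CycTab.dvd14 hr ho
    rw [CycTab.pv14] at hd
    refine key T _ hc h2 (Int.natCast_dvd_natCast.1 ?_)
    rw [hN]
    exact hd.trans ⟨(q : ℤ) + 1, by ring⟩
  · have hle : q ^ 3 ≤ q ^ 6 := Nat.pow_le_pow_right hq1 (by norm_num)
    have hN : (((q + 1) * (q ^ 6 - q ^ 3 + 1) : ℕ) : ℤ) =
        1 + (q : ℤ) - (q : ℤ) ^ 3 - (q : ℤ) ^ 4 + (q : ℤ) ^ 6 + (q : ℤ) ^ 7 := by
      push_cast [Nat.cast_sub hle]; ring
    obtain ⟨hW, h2, h3, h7⟩ := not_W hr ho (by norm_num) (by norm_num)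
    obtain ⟨T, -, hc, -⟩ := tor hq DataE7h.hA DataE7h.chainOK DataE7h.cycOK DataE7h.rootOK
      (N := (q + 1) * (q ^ 6 - q ^ 3 + 1)) (by rw [DataE7h.fN_eq, hN])
      (UntwData.coprime_of_eq (a := 1 - (q : ℤ) ^ 2 - (q : ℤ) ^ 3 + (q : ℤ) ^ 5 + (q : ℤ) ^ 6) (by rw [hN]; ring))
    have hd := CycTab.dvd18 hr ho
    rw [CycTab.pv18] at hd
    refine key T _ hc h2 (Int.natCast_dvd_natCast.1 ?_)
    rw [hN]
    exact hd.trans ⟨(q : ℤ) + 1, by ring⟩

/-- powers modulo `r` -/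
theorem dvd_iff_od {q r n : ℕ} (hq : 1 ≤ q) : r ∣ q ^ n - 1 ↔ orderOf (q : ZMod r) ∣ n := by
  rw [orderOf_dvd_iff_pow_eq_one, ← Nat.cast_one (R := ZMod r), ← Nat.cast_pow, eq_comm, ZMod.natCast_eq_natCast_iff,
    Nat.modEq_iff_dvd' (Nat.one_le_pow _ _ hq)]

theorem dd_mul_dvd {q r N : ℕ} (hr : r.Prime) (hr2 : r ≠ 2) (hrN : r ∣ N) (hd : dd q ∣ N) : dd q * r ∣ N := by
  refine Nat.Coprime.mul_dvd_of_dvd_of_dvd ?_ hd hrN
  exact Nat.Coprime.coprime_dvd_left (Nat.gcd_dvd_left 2 _) ((Nat.coprime_primes Nat.prime_two hr).2 hr2.symm)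

theorem dd_dvd_sub (q n : ℕ) : dd q ∣ q ^ n - 1 :=
  (Nat.gcd_dvd_right 2 (q - 1)).trans (by simpa using Nat.sub_dvd_pow_sub_pow q 1 n)

/-- **trivial action** -/
theorem cov_trivial {t : ℕ} (ht : t.Prime) {V : Type v} [AddCommGroup V] [Finite V] [Nontrivial V]
    (hV : ∀ v : V, t • v = 0) (φ : ↥(chevE7.group F) →* AddMonoid.End V) (hφ : ∀ g, φ g = 1) :
    ∃ (x : ↥(chevE7.group F)) (v : V), ∑ i ∈ Finset.range (orderOf x), φ (x ^ i) v ≠ 0 ∧
      ¬ ∃ y : ↥(chevE7.group F), orderOf y = t * orderOf x := by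
  set q := Fintype.card F with hq
  have hq2 : 2 ≤ q := Fintype.one_lt_card
  obtain ⟨v, hv⟩ := exists_ne (0 : V)
  have key : ∀ (r : ℕ), r.Prime → r ≠ t → (∃ g : ↥(chevE7.group F), orderOf g = r) →
      (¬ ∃ y : ↥(chevE7.group F), orderOf y = t * r) →
      ∃ (x : ↥(chevE7.group F)) (v : V), ∑ i ∈ Finset.range (orderOf x), φ (x ^ i) v ≠ 0 ∧
      ¬ ∃ y : ↥(chevE7.group F), orderOf y = t * orderOf x := by
    rintro r hr hrt ⟨g, hg⟩ hno
    refine ⟨g, v, H373.Recog.sum_ne_zero_of_fixed ht hV φ hv (by rw [hφ]; rfl) ?_, by rw [hg]; exact hno⟩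
    rw [hg]
    exact fun h => hrt ((Nat.prime_dvd_prime_iff_eq ht hr).1 h).symm
  by_cases h7 : dd q * t ∣ q ^ 7 - 1
  · obtain ⟨r, hr, ho⟩ := Lib.Zsigmondy.exists_prime_orderOf (a := q) (n := 14) hq2 (by norm_num) (by norm_num)
      (by norm_num)
    have hno : ∀ g : ↥(chevE7.group F), t * r ∣ orderOf g → False := by
      intro g hg
      have h14 := (mul_dvd_mul_left (dd q) ((Dvd.intro r rfl).trans hg)).trans
        (bound14 hq.symm hr ho ((Dvd.intro_left t rfl).trans hg))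
      have h2 : dd q * t ∣ 2 := by
        have h3 := Nat.dvd_sub h14 h7
        have h4 : q ^ 7 + 1 - (q ^ 7 - 1) = 2 := by
          have : 1 ≤ q ^ 7 := Nat.one_le_pow _ _ (by omega)
          omega
        rwa [h4] at h3
      rcases Nat.even_or_odd q with he | he
      · rw [dd_even he (by omega), one_mul] at h2 h14
        have h3 : t = 2 := (Nat.prime_dvd_prime_iff_eq ht Nat.prime_two).1 h2
        subst h3
        obtain ⟨m, hm⟩ := he.pow_of_ne_zero (n := 7) (by norm_num)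
        omega
      · rw [dd_odd he] at h2
        have h3 : t ∣ 1 := Nat.dvd_of_mul_dvd_mul_left (k := 2) (by norm_num) (by rw [mul_one]; exact h2)
        exact ht.one_lt.ne' (Nat.dvd_one.1 h3)
    refine key r hr ?_ (exists_ord hq.symm hr (by tauto)) ?_
    · rintro rfl
      have h1 : r ∣ q ^ 7 - 1 := (Dvd.intro_left _ rfl).trans h7
      rw [dvd_iff_od (by omega), ho] at h1
      norm_num at h1
    · rintro ⟨y, hy⟩
      exact hno y (by rw [hy])
  · obtain ⟨r, hr, ho⟩ := Lib.Zsigmondy.exists_prime_orderOf (a := q) (n := 7) hq2 (by norm_num) (by norm_num)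
      (by norm_num)
    refine key r hr ?_ (exists_ord hq.symm hr (by tauto)) ?_
    · rintro rfl
      exact h7 (dd_mul_dvd hr (od_facts hr ho (by norm_num)).1 ((dvd_iff_od (by omega)).2 (by rw [ho]))
        (dd_dvd_sub q 7))
    · rintro ⟨y, hy⟩
      exact h7 ((mul_dvd_mul_left (dd q) (by rw [hy]; exact Dvd.intro r rfl)).trans
        (bound7 hq.symm hr ho (by rw [hy]; exact Dvd.intro_left t rfl)))


include p in
/-- **covers in cross characteristic** -/
theorem cov_cross {t : ℕ} (ht : t.Prime) (htp : t ≠ p) {V : Type v} [AddCommGroup V] [Finite V] [Nontrivial V]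
    (hV : ∀ v : V, t • v = 0) (φ : ↥(chevE7.group F) →* AddMonoid.End V) :
    ∃ (x : ↥(chevE7.group F)) (v : V), ∑ i ∈ Finset.range (orderOf x), φ (x ^ i) v ≠ 0 ∧
      ¬ ∃ y : ↥(chevE7.group F), orderOf y = t * orderOf x := by
  by_cases hφ : ∀ g, φ g = 1
  · exact cov_trivial ht hV φ hφ
  have := finite_W hpE7 cs7
  have R := rgdK F p
  have hpp : p.Prime := Fact.out
  -- faithful
  have hker : φ.ker = ⊥ := by
    have h1 : IsSimpleGroup ↥(chevE7.group F) := isSimple7 F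
    rcases h1.eq_bot_or_eq_top_of_normal φ.ker inferInstance with h | h
    · exact h
    · exfalso
      apply hφ
      intro g
      have : g ∈ φ.ker := by rw [h]; exact Subgroup.mem_top g
      exact this
  obtain ⟨q, hq⟩ : ∃ q, q = Fintype.card F := ⟨_, rfl⟩
  have hq2 : 2 ≤ q := by rw [hq]; exact Fintype.one_lt_card
  have hpq : p ∣ q := by
    obtain ⟨n, -, hn⟩ := FiniteField.card F p
    rw [hq, hn]
    exact dvd_pow_self p n.ne_zero
  have hq' : Nat.card F = q := by rw [Nat.card_eq_fintype_card, hq]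
  -- the multiplier
  obtain ⟨m, hm⟩ : dd q ∣ q - 1 := Nat.gcd_dvd_right _ _
  have hd0 : 0 < dd q := Nat.gcd_pos_of_pos_left _ (by norm_num)
  have hm0 : m ≠ 0 := by
    rintro rfl
    rw [mul_zero] at hm
    omega
  have hmd : (q - 1) / dd q = m := by rw [hm]; exact Nat.mul_div_cancel_left _ hd0
  obtain ⟨k, hk, hk'⟩ := exists_exact ht hm0
  -- the conclusion from a Frobenius configuration
  have key : ∀ (J : List (Fin 7)) (r : ℕ), (∃ i : Fin 7, i ∉ J) →
      (∃ x : ↥(chevE7.group F), FrobAt p (t ^ k * r) (V7 F J) x) →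
      (¬ ∃ y : ↥(chevE7.group F), orderOf y = t ^ (k + 1) * r) →
      ∃ (x : ↥(chevE7.group F)) (v : V), ∑ i ∈ Finset.range (orderOf x), φ (x ^ i) v ≠ 0 ∧
        ¬ ∃ y : ↥(chevE7.group F), orderOf y = t * orderOf x := by
    rintro J r hJ ⟨x, hx⟩ hno
    obtain ⟨w, hw⟩ := norm_ne φ hx hpp ht htp hV (by
      obtain ⟨b, hb1⟩ := Subgroup.ne_bot_iff_exists_ne_one.1 hx.ne
      refine ⟨b, b.2, ?_⟩
      intro h1
      have h2 : (b : ↥(chevE7.group F)) ∈ φ.ker := h1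
      rw [hker, Subgroup.mem_bot] at h2
      exact hb1 (Subtype.ext h2))
    refine ⟨x, w, by rw [hx.ord]; exact hw, ?_⟩
    rw [hx.ord, ← mul_assoc, ← pow_succ']
    exact hno
  by_cases hN : t ∣ q ^ 6 + q ^ 3 + 1
  · obtain ⟨r, hr, ho⟩ := Lib.Zsigmondy.exists_prime_orderOf (a := q) (n := 7) hq2 (by norm_num) (by norm_num)
      (by norm_num)
    have h9 : t ∣ q ^ 9 - 1 := by
      refine hN.trans ⟨q ^ 3 - 1, ?_⟩
      zify [Nat.one_le_pow 9 q (by omega), Nat.one_le_pow 3 q (by omega)]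
      ring
    have h2 := od_facts hr ho (by norm_num)
    have htr : t ≠ r := by
      rintro rfl
      rw [dvd_iff_od (by omega), ho] at h9
      norm_num at h9
    have ht2 : t ≠ 2 := by
      rintro rfl
      have h3 : (q ^ 6 + q ^ 3 + 1) % 2 = 1 := by
        rcases Nat.even_or_odd' q with ⟨c, rfl | rfl⟩
        · ring_nf
          omega
        · ring_nf
          omega
      omega
    have hN7 : ¬ t ∣ q ^ 6 + q ^ 5 + q ^ 4 + q ^ 3 + q ^ 2 + q + 1 := by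
      intro h
      have h7 : t ∣ q ^ 7 - 1 := by
        refine h.trans ⟨q - 1, ?_⟩
        zify [Nat.one_le_pow 7 q (by omega), (by omega : 1 ≤ q)]
        ring
      rw [dvd_iff_od (by omega)] at h7 h9
      have h1 := Nat.dvd_gcd h7 h9
      have h1' : orderOf (q : ZMod t) ∣ 1 := by
        have e : Nat.gcd 7 9 = 1 := by norm_num
        rwa [e] at h1
      rw [← dvd_iff_od (by omega), pow_one] at h1'
      have h3 : (t : ℤ) ∣ (q : ℤ) - 1 := by
        have := Int.natCast_dvd_natCast.2 h1'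
        rwa [Nat.cast_sub (by omega), Nat.cast_one] at this
      have h4 : (t : ℤ) ∣ 7 := by
        have h5 := Int.natCast_dvd_natCast.2 h
        push_cast at h5
        have h6 := dvd_sub h5 (h3.mul_right ((q : ℤ) ^ 5 + 2 * (q : ℤ) ^ 4 + 3 * (q : ℤ) ^ 3 + 4 * (q : ℤ) ^ 2 + 5 * (q : ℤ) + 6))
        have e : (q : ℤ) ^ 6 + (q : ℤ) ^ 5 + (q : ℤ) ^ 4 + (q : ℤ) ^ 3 + (q : ℤ) ^ 2 + (q : ℤ) + 1 -
          ((q : ℤ) - 1) * ((q : ℤ) ^ 5 + 2 * (q : ℤ) ^ 4 + 3 * (q : ℤ) ^ 3 + 4 * (q : ℤ) ^ 2 + 5 * (q : ℤ) + 6) = 7 := by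
          ring
        rwa [e] at h6
      have h5 : (t : ℤ) ∣ 3 := by
        have h5 := Int.natCast_dvd_natCast.2 hN
        push_cast at h5
        have h6 := dvd_sub h5 (h3.mul_right ((q : ℤ) ^ 5 + (q : ℤ) ^ 4 + (q : ℤ) ^ 3 + 2 * (q : ℤ) ^ 2 + 2 * (q : ℤ) + 2))
        have e : (q : ℤ) ^ 6 + (q : ℤ) ^ 3 + 1 -
          ((q : ℤ) - 1) * ((q : ℤ) ^ 5 + (q : ℤ) ^ 4 + (q : ℤ) ^ 3 + 2 * (q : ℤ) ^ 2 + 2 * (q : ℤ) + 2) = 3 := by
          ring
        rwa [e] at h6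
      have h6 : (t : ℤ) ∣ 1 := by
        have := dvd_sub h4 (h5.mul_left 2)
        norm_num at this
        exact this
      exact ht.one_lt.ne' (Nat.dvd_one.1 (by exact_mod_cast h6))
    refine key [0, 2, 3, 4, 5, 6] r ⟨1, by decide⟩ (frob p (j := 1) (by decide) ⟨1, by decide⟩ hr ?_ ?_ ?_ ht htr ?_
      fun x hx => Or.inr ⟨coef1 hx, Or.inl ht2⟩) ?_
    · rintro rfl
      have h3 : (q : ZMod r) = 0 := (ZMod.natCast_eq_zero_iff q r).2 hpq
      have hfr : Fact r.Prime := ⟨hr⟩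
      rw [h3] at ho
      have h4 : orderOf (0 : ZMod r) = 0 := by
        rw [orderOf_eq_zero_iff']
        intro k hk
        rw [zero_pow hk.ne']
        exact zero_ne_one
      omega
    · exact dvd_b F p hr (by rw [hq']; exact ho)
    · rintro ⟨y, hy⟩
      have h3 := (Dvd.intro_left (dd q) rfl).trans (bound7 hq.symm hr ho (g := y) (by rw [hy]; exact Dvd.intro_left p rfl))
      rw [hy] at h3
      have h4 : p ∣ q ^ 7 - 1 := (Dvd.intro r rfl).trans h3
      have h5 := Nat.dvd_sub ((hpq.trans (dvd_pow_self q (by norm_num : 7 ≠ 0)))) h4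
      rw [Nat.sub_sub_self (Nat.one_le_pow 7 q (by omega))] at h5
      exact hpp.one_lt.ne' (Nat.dvd_one.1 h5)
    · rw [← hq, hmd]
      exact hk
    · rintro ⟨y, hy⟩
      have h3 := bound7 hq.symm hr ho (g := y) (by rw [hy]; exact Dvd.intro_left _ rfl)
      rw [hy] at h3
      have h4 : q ^ 7 - 1 = dd q * m * (q ^ 6 + q ^ 5 + q ^ 4 + q ^ 3 + q ^ 2 + q + 1) := by
        rw [← hm]
        zify [Nat.one_le_pow 7 q (by omega), (by omega : 1 ≤ q)]
        ring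
      rw [h4] at h3
      exact num_aux hd0 ht hN7 hk' h3
  · obtain ⟨r, hr, ho⟩ := Lib.Zsigmondy.exists_prime_orderOf (a := q) (n := 9) hq2 (by norm_num) (by norm_num)
      (by norm_num)
    have hr9 : r ∣ q ^ 6 + q ^ 3 + 1 := by
      have hd := CycTab.dvd9 hr ho
      rw [CycTab.pv9] at hd
      apply Int.natCast_dvd_natCast.1
      push_cast
      exact hd
    have htr : t ≠ r := by
      rintro rfl
      exact hN hr9
    refine key [0, 1, 2, 3, 4, 5] r ⟨6, by decide⟩ (frob p (j := 6) (by decide) ⟨6, by decide⟩ hr ?_ ?_ ?_ ht htr ?_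
      fun x hx => Or.inl (coef6 hx)) ?_
    · rintro rfl
      have h3 : (q : ZMod r) = 0 := (ZMod.natCast_eq_zero_iff q r).2 hpq
      have hfr : Fact r.Prime := ⟨hr⟩
      rw [h3] at ho
      have h4 : orderOf (0 : ZMod r) = 0 := by
        rw [orderOf_eq_zero_iff']
        intro k hk
        rw [zero_pow hk.ne']
        exact zero_ne_one
      omega
    · exact dvd_a F p hr (od_facts hr ho (by norm_num)).1 (by rw [hq']; tauto)
    · rintro ⟨y, hy⟩
      have h3 := (Dvd.intro_left (dd q) rfl).trans (bound9 hq.symm hr ho (g := y) (by rw [hy]; exact Dvd.intro_left p rfl))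
      rw [hy] at h3
      have h4 : p ∣ (q - 1) * (q ^ 6 + q ^ 3 + 1) := (Dvd.intro r rfl).trans h3
      have h5 : p ∣ q ^ 9 - 1 := by
        rcases hpp.dvd_mul.1 h4 with h5 | h5
        · exact h5.trans (by simpa using Nat.sub_dvd_pow_sub_pow q 1 9)
        · refine h5.trans ⟨q ^ 3 - 1, ?_⟩
          zify [Nat.one_le_pow 9 q (by omega), Nat.one_le_pow 3 q (by omega)]
          ring
      have h5 := Nat.dvd_sub ((hpq.trans (dvd_pow_self q (by norm_num : 9 ≠ 0)))) h5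
      rw [Nat.sub_sub_self (Nat.one_le_pow 9 q (by omega))] at h5
      exact hpp.one_lt.ne' (Nat.dvd_one.1 h5)
    · rw [← hq, hmd]
      exact hk
    · rintro ⟨y, hy⟩
      have h3 := bound9 hq.symm hr ho (g := y) (by rw [hy]; exact Dvd.intro_left _ rfl)
      rw [hy, hm] at h3
      exact num_aux hd0 ht hN hk' h3


include p in
/-- **covers: reduction to nontrivial actions in the defining characteristic** -/
theorem cov_of (h : ∀ (V : Type v) [AddCommGroup V] [Finite V] [Nontrivial V], (∀ v : V, p • v = 0) →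
      ∀ φ : ↥(chevE7.group F) →* AddMonoid.End V, (∃ g, φ g ≠ 1) →
      ∃ (x : ↥(chevE7.group F)) (v : V), ∑ i ∈ Finset.range (orderOf x), φ (x ^ i) v ≠ 0 ∧
        ¬ ∃ y : ↥(chevE7.group F), orderOf y = p * orderOf x) : H373.Recog.Cov.{u, v} ↥(chevE7.group F) := by
  intro t ht V _ _ _ hV φ
  by_cases htp : t = p
  · subst htp
    by_cases hφ : ∀ g, φ g = 1
    · exact cov_trivial ht hV φ hφ
    · push Not at hφ
      exact h V hV φ hφ
  · exact cov_cross p ht htp hV φ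

end Main

end Cfsg.Agent.H824.E7.Cross
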