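import Cfsg.Agent.H129.CycT2
import Cfsg.Agent.H129.DataE7m
import Cfsg.Agent.H129.DataE7h
import Cfsg.Agent.H378.CycTab

/-!
# Element orders of `E₇(q)` divisible by a primitive prime divisor of index 7, 9, 14, 18 (helper824)

`bound i` : if a prime `r` with `orderOf (q : ZMod r) = i` divides the order of `g : E₇(q)`, then
`gcd (2, q - 1) * orderOf g` divides `q ^ 7 - 1`, `(q - 1) (q ^ 6 + q ^ 3 + 1)`, `q ^ 7 + 1`,
`(q + 1) (q ^ 6 - q ^ 3 + 1)`, for `i = 7, 9, 14, 18`.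
-/

set_option autoImplicit false
set_option linter.unusedSectionVars false

namespace Cfsg.Agent.H824.E7.Tor

open Cfsg Cfsg.Lie
open Cfsg.Agent.H129 Cfsg.Agent.H129.TorusChar Cfsg.Agent.H129.TorusTw Cfsg.Agent.H129.WData
  Cfsg.Agent.H129.CycT Cfsg.Agent.H129.RealT Cfsg.Agent.H378 Cfsg.Agent.ChevalleyStructure.CoxeterGeomTypes
  Cfsg.Lie.ChevalleyDatum

universe u

section Abs

variable {G : Type*} [Group G] [Finite G]

/-- a cyclic subgroup containing the centralisers of its elements of order `r` contains a Sylow `r`-subgroup -/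
theorem exists_conj {T : Subgroup G} (hT : IsCyclic ↥T) {r : ℕ} (hr : r.Prime) (hrT : r ∣ Nat.card ↥T)
    (hc : ∀ y ∈ T, orderOf y = r → Subgroup.centralizer {y} ≤ T) {g : G} (hg : r ∣ orderOf g) :
    orderOf g ∣ Nat.card ↥T := by
  have hf : Fact r.Prime := ⟨hr⟩
  obtain ⟨⟨y0, hy0T⟩, hy0⟩ := exists_prime_orderOf_dvd_card' (G := ↥T) r hrT
  rw [Subgroup.orderOf_mk] at hy0
  -- a Sylow subgroup containing `y0`
  obtain ⟨P, hP⟩ := IsPGroup.exists_le_sylow (p := r) (P := Subgroup.zpowers y0) (by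
    apply IsPGroup.of_card (n := 1)
    rw [Nat.card_zpowers, hy0, pow_one])
  have hy0P : y0 ∈ (P : Subgroup G) := hP (Subgroup.mem_zpowers y0)
  have hPT : (P : Subgroup G) ≤ T := by
    have hnt : Nontrivial ↥(P : Subgroup G) := by
      refine ⟨⟨⟨y0, hy0P⟩, 1, fun h => ?_⟩⟩
      have h1 : y0 = 1 := congrArg Subtype.val h
      rw [h1, orderOf_one] at hy0
      exact hr.one_lt.ne hy0
    have hZ : Nontrivial (Subgroup.center ↥(P : Subgroup G)) := P.isPGroup'.center_nontrivial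
    have hZp : IsPGroup r (Subgroup.center ↥(P : Subgroup G)) := P.isPGroup'.to_subgroup _
    obtain ⟨n, hn, hn'⟩ := hZp.nontrivial_iff_card.1 hZ
    obtain ⟨⟨⟨z, hzP⟩, hzZ⟩, hz⟩ := exists_prime_orderOf_dvd_card' (G := Subgroup.center ↥(P : Subgroup G)) r (by
      rw [hn']; exact dvd_pow_self r hn.ne')
    rw [Subgroup.orderOf_mk, Subgroup.orderOf_mk] at hz
    have hzc : ∀ x ∈ (P : Subgroup G), x * z = z * x := by
      intro x hx
      have := Subgroup.mem_center_iff.1 hzZ ⟨x, hx⟩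
      exact congrArg Subtype.val this
    have hzT : z ∈ T := hc y0 hy0T hy0 (Subgroup.mem_centralizer_singleton_iff.2 (hzc y0 hy0P).symm)
    intro x hx
    exact hc z hzT hz (Subgroup.mem_centralizer_singleton_iff.2 (hzc x hx))
  -- the element of order `r` in `⟨g⟩`
  obtain ⟨m, hm⟩ := hg
  have hm0 : m ≠ 0 := by
    rintro rfl
    rw [mul_zero] at hm
    exact (orderOf_pos g).ne' hm
  have hy : orderOf (g ^ m) = r := by
    rw [orderOf_pow_of_dvd hm0 (Dvd.intro_left _ hm.symm), hm]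
    exact Nat.mul_div_cancel _ (Nat.pos_of_ne_zero hm0)
  obtain ⟨Q, hQ⟩ := IsPGroup.exists_le_sylow (p := r) (P := Subgroup.zpowers (g ^ m)) (by
    apply IsPGroup.of_card (n := 1)
    rw [Nat.card_zpowers, hy, pow_one])
  obtain ⟨a, ha⟩ := MulAction.exists_smul_eq G Q P
  have h1 : a * g ^ m * a⁻¹ ∈ T := by
    apply hPT
    rw [← ha]
    have h2 : g ^ m ∈ (Q : Subgroup G) := hQ (Subgroup.mem_zpowers _)
    rw [Sylow.coe_subgroup_smul]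
    have h3 := Subgroup.smul_mem_pointwise_smul (g ^ m) (MulAut.conj a) (Q : Subgroup G) h2
    exact h3
  have h2 : orderOf (a * g ^ m * a⁻¹) = r := by
    rw [← hy]
    exact MulEquiv.orderOf_eq (MulAut.conj a) (g ^ m)
  have h3 : a * g * a⁻¹ ∈ T := by
    apply hc _ h1 h2
    rw [Subgroup.mem_centralizer_singleton_iff]
    have e : a * g ^ m * a⁻¹ = (a * g * a⁻¹) ^ m := by
      rw [← MulAut.conj_apply a g, ← map_pow]
      rfl
    rw [e]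
    exact (Commute.refl (a * g * a⁻¹)).pow_right m
  have h4 : orderOf (a * g * a⁻¹) = orderOf g := MulEquiv.orderOf_eq (MulAut.conj a) g
  rw [← h4]
  have := orderOf_dvd_natCard (⟨_, h3⟩ : ↥T)
  rwa [Subgroup.orderOf_mk] at this

end Abs

variable {F : Type u} [Field F] [Fintype F] {q : ℕ}

/-- the factor of the adjoint group -/
abbrev dd (q : ℕ) : ℕ := Nat.gcd 2 (q - 1)

theorem dd_even {q : ℕ} (h : Even q) (h0 : 0 < q) : dd q = 1 := by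
  have h1 : ¬ 2 ∣ q - 1 := by
    obtain ⟨m, hm⟩ := h
    omega
  exact (Nat.Prime.coprime_iff_not_dvd Nat.prime_two).2 h1

theorem dd_odd {q : ℕ} (h : Odd q) : dd q = 2 := by
  obtain ⟨m, hm⟩ := h
  exact Nat.gcd_eq_left ⟨m, by omega⟩

/-- the torus with the exact order -/
theorem tor (hq : Fintype.card F = q)
    {A : Mat 7} (hA : ∀ i j, A i j = cartanOf chevE7 7 i j) {L : List (Fin 7 × Mat 7)} (hL : ChainOK A L)
    {V B : Mat 7} {c : Fin 7 → ℤ} (hcyc : CycOK 7 (hd L) V B c) {m : ℕ} {R : Fin m → Fin 7 → ℤ} {prv dep : ℕ → ℕ}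
    (hR : RootOK chevE7 7 (hd L) R prv dep) {N : ℕ} (hfN : fN c (q : ℤ) = N) (hqN : q.Coprime N) :
    ∃ T : Subgroup ↥(chevE7.group F), IsCyclic ↥T ∧ dd q * Nat.card ↥T = N ∧
      (∀ r : ℕ, r.Prime → ¬ r ∣ Nat.card CoxeterMatrix.E₇.Group → (∀ s, ¬ (r : ℤ) ∣ Gq B (q : ℤ) (R s)) →
        ∀ y ∈ T, orderOf y = r → Subgroup.centralizer {y} ≤ T) := by
  have := finite_W7
  rcases Nat.even_or_odd q with h | h
  · rw [dd_even h (by rw [← hq]; exact Fintype.card_pos)]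
    obtain ⟨T, h1, h2, h3, h4, -⟩ := UntwT.untw_T typeE7 CoxeterMatrix.E₇.toCoxeterSystem (by norm_num) hq
      TorusChar.invC_E7 (by norm_num) hA hL hcyc hR hfN hqN (d := 1) (Or.inr ⟨rfl, sq_surj hq h⟩)
    rw [one_mul] at h3
    exact ⟨T, h1, by rw [one_mul]; exact Nat.dvd_antisymm h2 h3, h4⟩
  · rw [dd_odd h]
    obtain ⟨T, h1, h2, h3, -⟩ := HalfT.half_E7 hq h typeE7 hA hL hcyc hR hfN hqN
    exact ⟨T, h1, h2, h3⟩

theorem dvd_of_torus {N r : ℕ} (hr : r.Prime) (hr2 : r ≠ 2) (hrN : r ∣ N) {T : Subgroup ↥(chevE7.group F)}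
    (h : dd q * Nat.card ↥T = N) : r ∣ Nat.card ↥T := by
  rw [← h] at hrN
  rcases hr.dvd_mul.1 hrN with h1 | h1
  · exact absurd ((Nat.prime_dvd_prime_iff_eq hr Nat.prime_two).1 (h1.trans (Nat.gcd_dvd_left _ _))) hr2
  · exact h1

theorem od_facts {r i : ℕ} (hr : r.Prime) (h : orderOf (q : ZMod r) = i) (hi : 2 < i) : r ≠ 2 ∧ i ∣ r - 1 := by
  have hf : Fact r.Prime := ⟨hr⟩
  have h1 : i ∣ r - 1 := by
    rw [← h]
    apply orderOf_dvd_of_pow_eq_one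
    apply ZMod.pow_card_sub_one_eq_one
    intro h0
    rw [h0] at h
    have h1 : orderOf (0 : ZMod r) = 0 := by
      rw [orderOf_eq_zero_iff']
      intro k hk
      rw [zero_pow hk.ne']
      exact zero_ne_one
    omega
  refine ⟨?_, h1⟩
  rintro rfl
  have := Nat.le_of_dvd (by norm_num) h1
  omega

theorem not_W {r i : ℕ} (hr : r.Prime) (h : orderOf (q : ZMod r) = i) (hi : 6 < i) (h7 : ¬ i ∣ 6) :
    ¬ r ∣ Nat.card CoxeterMatrix.E₇.Group ∧ r ≠ 2 ∧ r ≠ 3 ∧ r ≠ 7 := by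
  obtain ⟨h2, h1⟩ := od_facts hr h (by omega)
  have h3 : 0 < r - 1 := by have := hr.one_lt; omega
  have h4 := Nat.le_of_dvd h3 h1
  have h5 : r ≠ 7 := by
    rintro rfl
    exact h7 h1
  exact ⟨not_dvd_W7 hr (by omega) (by omega) (by omega) h5, by omega, by omega, h5⟩

theorem not_G {r : ℕ} (hr : r.Prime) (h2 : r ≠ 2) (h7 : r ≠ 7) 
    (h : (r : ℤ) ∣ 1 ∨ (r : ℤ) ∣ 2 ∨ (r : ℤ) ∣ 7) : False := by
  rcases h with h | h | h
  · exact not_one hr h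
  · exact h2 ((Nat.prime_dvd_prime_iff_eq hr Nat.prime_two).1 (by exact_mod_cast h))
  · exact h7 ((Nat.prime_dvd_prime_iff_eq hr (by norm_num)).1 (by exact_mod_cast h))

/-- **index 7** -/
theorem bound7 (hq : Fintype.card F = q) {r : ℕ} (hr : r.Prime) (ho : orderOf (q : ZMod r) = 7)
    {g : ↥(chevE7.group F)} (hg : r ∣ orderOf g) : dd q * orderOf g ∣ q ^ 7 - 1 := by
  have hq1 : 1 ≤ q := by rw [← hq]; exact Fintype.card_pos
  have hN : ((q ^ 7 - 1 : ℕ) : ℤ) = -1 + (q : ℤ) ^ 7 := by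
    push_cast [Nat.cast_sub (Nat.one_le_pow 7 q hq1)]; ring
  obtain ⟨hW, h2, h3, h7⟩ := not_W hr ho (by norm_num) (by norm_num)
  obtain ⟨T, hT, hc, hcen⟩ := tor hq DataE7s.hA DataE7s.chainOK DataE7s.cycOK DataE7s.rootOK (N := q ^ 7 - 1)
    (by rw [DataE7s.fN_eq, hN]) (coprime_of_neg (a := (q : ℤ) ^ 6) (by rw [hN]; ring))
  have hd := CycTab.dvd7 hr ho
  rw [CycTab.pv7] at hd
  have hrN : r ∣ q ^ 7 - 1 := by
    apply Int.natCast_dvd_natCast.1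
    rw [hN]
    exact hd.trans ⟨(q : ℤ) - 1, by ring⟩
  rw [← hc]
  refine mul_dvd_mul_left _ (exists_conj hT hr (dvd_of_torus hr h2 hrN hc) (hcen r hr hW fun s hs => ?_) hg)
  exact not_G hr h2 h7 (DataE7s.dvd_of_G (x := (q : ℤ)) (by
    have e : 1 + (q : ℤ) + (q : ℤ) ^ 2 + (q : ℤ) ^ 3 + (q : ℤ) ^ 4 + (q : ℤ) ^ 5 + (q : ℤ) ^ 6 =
      (q : ℤ) ^ 6 + (q : ℤ) ^ 5 + (q : ℤ) ^ 4 + (q : ℤ) ^ 3 + (q : ℤ) ^ 2 + (q : ℤ) + 1 := by ring
    rw [e]; exact hd) s hs)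

/-- **index 9** -/
theorem bound9 (hq : Fintype.card F = q) {r : ℕ} (hr : r.Prime) (ho : orderOf (q : ZMod r) = 9)
    {g : ↥(chevE7.group F)} (hg : r ∣ orderOf g) : dd q * orderOf g ∣ (q - 1) * (q ^ 6 + q ^ 3 + 1) := by
  have hq1 : 1 ≤ q := by rw [← hq]; exact Fintype.card_pos
  have hN : (((q - 1) * (q ^ 6 + q ^ 3 + 1) : ℕ) : ℤ) =
      -1 + (q : ℤ) - (q : ℤ) ^ 3 + (q : ℤ) ^ 4 - (q : ℤ) ^ 6 + (q : ℤ) ^ 7 := by
    push_cast [Nat.cast_sub hq1]; ring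
  obtain ⟨hW, h2, h3, h7⟩ := not_W hr ho (by norm_num) (by norm_num)
  obtain ⟨T, hT, hc, hcen⟩ := tor hq DataE7n.hA DataE7n.chainOK DataE7n.cycOK DataE7n.rootOK
    (N := (q - 1) * (q ^ 6 + q ^ 3 + 1)) (by rw [DataE7n.fN_eq, hN])
    (coprime_of_neg (a := 1 - (q : ℤ) ^ 2 + (q : ℤ) ^ 3 - (q : ℤ) ^ 5 + (q : ℤ) ^ 6) (by rw [hN]; ring))
  have hd := CycTab.dvd9 hr ho
  rw [CycTab.pv9] at hd
  have hrN : r ∣ (q - 1) * (q ^ 6 + q ^ 3 + 1) := by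
    apply Int.natCast_dvd_natCast.1
    rw [hN]
    exact hd.trans ⟨(q : ℤ) - 1, by ring⟩
  rw [← hc]
  refine mul_dvd_mul_left _ (exists_conj hT hr (dvd_of_torus hr h2 hrN hc) (hcen r hr hW fun s hs => ?_) hg)
  rcases DataE7n.dvd_of_G (x := (q : ℤ)) (by
    have e : 1 + (q : ℤ) ^ 3 + (q : ℤ) ^ 6 = (q : ℤ) ^ 6 + (q : ℤ) ^ 3 + 1 := by ring
    rw [e]; exact hd) s hs with h | h
  · exact not_one hr h
  · exact h3 ((Nat.prime_dvd_prime_iff_eq hr Nat.prime_three).1 (by exact_mod_cast h))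

/-- **index 14** -/
theorem bound14 (hq : Fintype.card F = q) {r : ℕ} (hr : r.Prime) (ho : orderOf (q : ZMod r) = 14)
    {g : ↥(chevE7.group F)} (hg : r ∣ orderOf g) : dd q * orderOf g ∣ q ^ 7 + 1 := by
  have hN : ((q ^ 7 + 1 : ℕ) : ℤ) = 1 + (q : ℤ) ^ 7 := by push_cast; ring
  obtain ⟨hW, h2, h3, h7⟩ := not_W hr ho (by norm_num) (by norm_num)
  obtain ⟨T, hT, hc, hcen⟩ := tor hq DataE7m.hA DataE7m.chainOK DataE7m.cycOK DataE7m.rootOK (N := q ^ 7 + 1)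
    (by rw [DataE7m.fN_eq, hN]) (UntwData.coprime_of_eq (a := (q : ℤ) ^ 6) (by rw [hN]; ring))
  have hd := CycTab.dvd14 hr ho
  rw [CycTab.pv14] at hd
  have hrN : r ∣ q ^ 7 + 1 := by
    apply Int.natCast_dvd_natCast.1
    rw [hN]
    exact hd.trans ⟨(q : ℤ) + 1, by ring⟩
  rw [← hc]
  refine mul_dvd_mul_left _ (exists_conj hT hr (dvd_of_torus hr h2 hrN hc) (hcen r hr hW fun s hs => ?_) hg)
  exact not_G hr h2 h7 (DataE7m.dvd_of_G (x := (q : ℤ)) (by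
    have e : 1 - (q : ℤ) + (q : ℤ) ^ 2 - (q : ℤ) ^ 3 + (q : ℤ) ^ 4 - (q : ℤ) ^ 5 + (q : ℤ) ^ 6 =
      (q : ℤ) ^ 6 - (q : ℤ) ^ 5 + (q : ℤ) ^ 4 - (q : ℤ) ^ 3 + (q : ℤ) ^ 2 - (q : ℤ) + 1 := by ring
    rw [e]; exact hd) s hs)

/-- **index 18** -/
theorem bound18 (hq : Fintype.card F = q) {r : ℕ} (hr : r.Prime) (ho : orderOf (q : ZMod r) = 18)
    {g : ↥(chevE7.group F)} (hg : r ∣ orderOf g) : dd q * orderOf g ∣ (q + 1) * (q ^ 6 - q ^ 3 + 1) := by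
  have hq1 : 1 ≤ q := by rw [← hq]; exact Fintype.card_pos
  have hle : q ^ 3 ≤ q ^ 6 := Nat.pow_le_pow_right hq1 (by norm_num)
  have hN : (((q + 1) * (q ^ 6 - q ^ 3 + 1) : ℕ) : ℤ) =
      1 + (q : ℤ) - (q : ℤ) ^ 3 - (q : ℤ) ^ 4 + (q : ℤ) ^ 6 + (q : ℤ) ^ 7 := by
    push_cast [Nat.cast_sub hle]; ring
  obtain ⟨hW, h2, h3, h7⟩ := not_W hr ho (by norm_num) (by norm_num)
  obtain ⟨T, hT, hc, hcen⟩ := tor hq DataE7h.hA DataE7h.chainOK DataE7h.cycOK DataE7h.rootOK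
    (N := (q + 1) * (q ^ 6 - q ^ 3 + 1)) (by rw [DataE7h.fN_eq, hN])
    (UntwData.coprime_of_eq (a := 1 - (q : ℤ) ^ 2 - (q : ℤ) ^ 3 + (q : ℤ) ^ 5 + (q : ℤ) ^ 6) (by rw [hN]; ring))
  have hd := CycTab.dvd18 hr ho
  rw [CycTab.pv18] at hd
  have hrN : r ∣ (q + 1) * (q ^ 6 - q ^ 3 + 1) := by
    apply Int.natCast_dvd_natCast.1
    rw [hN]
    exact hd.trans ⟨(q : ℤ) + 1, by ring⟩
  rw [← hc]
  refine mul_dvd_mul_left _ (exists_conj hT hr (dvd_of_torus hr h2 hrN hc) (hcen r hr hW fun s hs => ?_) hg)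
  rcases DataE7h.dvd_of_G (x := (q : ℤ)) (by
    have e : 1 - (q : ℤ) ^ 3 + (q : ℤ) ^ 6 = (q : ℤ) ^ 6 - (q : ℤ) ^ 3 + 1 := by ring
    rw [e]; exact hd) s hs with h | h
  · exact not_one hr h
  · exact h3 ((Nat.prime_dvd_prime_iff_eq hr Nat.prime_three).1 (by exact_mod_cast h))

end Cfsg.Agent.H824.E7.Tor
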